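import Groth.Agent.AdicLinTop.DP.Gens
import Mathlib.RingTheory.Flat.Basic
import Mathlib.RingTheory.PowerSeries.Substitution

/-!
Gluing and extending divided powers.
-/

universe u v

open Finset TensorProduct

namespace Groth.AdicLinTop.DP

section sup

variable {A : Type u} [CommRing A] {I J : Ideal A} (γ : DividedPowers I) (δ : DividedPowers J)

theorem exp_zero : γ.exp 0 = 1 := by
  ext n
  rw [DividedPowers.exp, PowerSeries.coeff_mk, PowerSeries.coeff_one]
  split_ifs with h
  · rw [h, γ.dpow_zero I.zero_mem]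
  · exact γ.dpow_eval_zero h

theorem exp_mul {a x : A} (hx : x ∈ I) : γ.exp (a * x) = PowerSeries.rescale a (γ.exp x) := by
  ext n
  rw [PowerSeries.coeff_rescale, DividedPowers.exp, DividedPowers.exp, PowerSeries.coeff_mk,
    PowerSeries.coeff_mk, γ.dpow_mul hx]

theorem exists_dp_sup (h : ∀ (n : ℕ) (x : A), x ∈ I ⊓ J → γ.dpow n x = δ.dpow n x) :
    ∃ ε : DividedPowers (I ⊔ J),
      (∀ (n : ℕ) (x : A), x ∈ I → ε.dpow n x = γ.dpow n x) ∧
        (∀ (n : ℕ) (x : A), x ∈ J → ε.dpow n x = δ.dpow n x) := by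
  classical
  let d : ℕ → A → A := fun n z => if hz : z ∈ I ⊔ J then
    PowerSeries.coeff n (γ.exp (Submodule.mem_sup.mp hz).choose *
      δ.exp (Submodule.mem_sup.mp hz).choose_spec.2.choose) else 0
  have hwd : ∀ {x0 y0 x y : A}, x0 ∈ I → y0 ∈ J → x ∈ I → y ∈ J → x0 + y0 = x + y →
      γ.exp x0 * δ.exp y0 = γ.exp x * δ.exp y := by
    intro x0 y0 x y hx0 hy0 hx hy he
    have ht : x0 - x ∈ I ⊓ J := ⟨I.sub_mem hx0 hx, by
      rw [show x0 - x = y - y0 by linear_combination he]; exact J.sub_mem hy hy0⟩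
    have hexp : γ.exp (x0 - x) = δ.exp (x0 - x) := PowerSeries.ext fun k => by
      simp only [DividedPowers.exp, PowerSeries.coeff_mk]; exact h k _ ht
    rw [show x0 = x + (x0 - x) by ring, γ.exp_add hx ht.1, mul_assoc, hexp, ← δ.exp_add ht.2 hy0,
      show x0 - x + y0 = y by linear_combination he]
  have key : ∀ n x, x ∈ I → ∀ y, y ∈ J → d n (x + y) = PowerSeries.coeff n (γ.exp x * δ.exp y) := by
    intro n x hx y hy
    have hz : x + y ∈ I ⊔ J := Submodule.add_mem_sup hx hy
    simp only [d, dif_pos hz]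
    exact congrArg _ (hwd (Submodule.mem_sup.mp hz).choose_spec.1 (Submodule.mem_sup.mp hz).choose_spec.2.choose_spec.1
      hx hy (Submodule.mem_sup.mp hz).choose_spec.2.choose_spec.2)
  have hdI : ∀ n x, x ∈ I → d n x = γ.dpow n x := fun n x hx => by
    have := key n x hx 0 J.zero_mem
    rwa [add_zero, exp_zero, mul_one, DividedPowers.exp, PowerSeries.coeff_mk] at this
  have hdJ : ∀ n x, x ∈ J → d n x = δ.dpow n x := fun n x hx => by
    have := key n 0 I.zero_mem x hx
    rwa [zero_add, exp_zero, one_mul, DividedPowers.exp, PowerSeries.coeff_mk] at this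
  have hexpand : ∀ n x, x ∈ I → ∀ y, y ∈ J →
      d n (x + y) = ∑ k ∈ antidiagonal n, γ.dpow k.1 x * δ.dpow k.2 y := fun n x hx y hy => by
    rw [key n x hx y hy, PowerSeries.coeff_mul]
    simp only [DividedPowers.exp, PowerSeries.coeff_mk]
  have hd : IsPreDP (I ⊔ J) d := by
    refine ⟨fun n x hx => dif_neg hx, fun z hz => ?_, fun z hz => ?_, fun n z hn hz => ?_,
      fun n z w hz hw => ?_, fun n a z hz => ?_⟩
    · obtain ⟨x, hx, y, hy, rfl⟩ := Submodule.mem_sup.mp hz
      rw [hexpand 0 x hx y hy, Finset.Nat.antidiagonal_zero, Finset.sum_singleton, γ.dpow_zero hx,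
        δ.dpow_zero hy, mul_one]
    · obtain ⟨x, hx, y, hy, rfl⟩ := Submodule.mem_sup.mp hz
      rw [hexpand 1 x hx y hy, show antidiagonal 1 = ({(0, 1), (1, 0)} : Finset (ℕ × ℕ)) from rfl,
        Finset.sum_pair (by simp), γ.dpow_zero hx, δ.dpow_zero hy, γ.dpow_one hx, δ.dpow_one hy]
      ring
    · obtain ⟨x, hx, y, hy, rfl⟩ := Submodule.mem_sup.mp hz
      rw [hexpand n x hx y hy]
      refine Submodule.sum_mem _ fun k hk => ?_
      rw [mem_antidiagonal] at hk
      by_cases h1 : k.1 = 0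
      · exact Ideal.mul_mem_left _ _ (Submodule.mem_sup_right (δ.dpow_mem (by omega) hy))
      · exact Ideal.mul_mem_right _ _ (Submodule.mem_sup_left (γ.dpow_mem h1 hx))
    · obtain ⟨x, hx, y, hy, rfl⟩ := Submodule.mem_sup.mp hz
      obtain ⟨x', hx', y', hy', rfl⟩ := Submodule.mem_sup.mp hw
      rw [show x + y + (x' + y') = x + x' + (y + y') by ring,
        key n _ (I.add_mem hx hx') _ (J.add_mem hy hy'), γ.exp_add hx hx', δ.exp_add hy hy',
        mul_mul_mul_comm, PowerSeries.coeff_mul]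
      exact Finset.sum_congr rfl fun k _ => by rw [key k.1 x hx y hy, key k.2 x' hx' y' hy']
    · obtain ⟨x, hx, y, hy, rfl⟩ := Submodule.mem_sup.mp hz
      rw [mul_add, key n _ (I.mul_mem_left a hx) _ (J.mul_mem_left a hy), exp_mul γ hx, exp_mul δ hy,
        ← map_mul, PowerSeries.coeff_rescale, key n x hx y hy]
  obtain ⟨ε, hε⟩ := hd.exists_dp (S := (I : Set A) ∪ J) (by rw [Ideal.span_union, Ideal.span_eq, Ideal.span_eq])
    (fun z hz => by
      rcases hz with hz | hz
      · refine ⟨fun m n => ?_, fun m n hn => ?_⟩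
        · rw [hdI m z hz, hdI n z hz, hdI _ z hz]; exact γ.mul_dpow hz
        · rw [hdI n z hz, hdI m _ (γ.dpow_mem hn hz), hdI _ z hz]; exact γ.dpow_comp hn hz
      · refine ⟨fun m n => ?_, fun m n hn => ?_⟩
        · rw [hdJ m z hz, hdJ n z hz, hdJ _ z hz]; exact δ.mul_dpow hz
        · rw [hdJ n z hz, hdJ m _ (δ.dpow_mem hn hz), hdJ _ z hz]; exact δ.dpow_comp hn hz)
  exact ⟨ε, fun n x hx => hε ▸ hdI n x hx, fun n x hx => hε ▸ hdJ n x hx⟩

theorem dp_sup_unique {ε ε' : DividedPowers (I ⊔ J)}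
    (hI : ∀ (n : ℕ) (x : A), x ∈ I → ε.dpow n x = ε'.dpow n x)
    (hJ : ∀ (n : ℕ) (x : A), x ∈ J → ε.dpow n x = ε'.dpow n x) : ε = ε' :=
  DividedPowers.dpow_eq_from_gens ε' ε (S := (I : Set A) ∪ J)
    (by rw [Ideal.span_union, Ideal.span_eq, Ideal.span_eq])
    fun {n} a ha => ha.elim (fun h => (hI n a h).symm) (fun h => (hJ n a h).symm)

end sup

section ext

variable {A : Type u} {B : Type v} [CommRing A] [CommRing B] [Algebra A B] {I : Ideal A}
  (γ : DividedPowers I)

theorem ext_unique (δ δ' : DividedPowers (I.map (algebraMap A B)))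
    (h : γ.IsDPMorphism δ (algebraMap A B)) (h' : γ.IsDPMorphism δ' (algebraMap A B)) : δ = δ' :=
  DividedPowers.dpow_eq_from_gens δ' δ (S := algebraMap A B '' I) rfl fun {n} a ha => by
    obtain ⟨x, hx, rfl⟩ := ha
    rw [h.dpow_comp x hx, h'.dpow_comp x hx]

theorem rescale_zero_exp {i : A} (hi : i ∈ I) :
    PowerSeries.rescale (0 : B) (PowerSeries.map (algebraMap A B) (γ.exp i)) = 1 := PowerSeries.ext fun n => by
  simp only [PowerSeries.coeff_rescale, PowerSeries.coeff_map, DividedPowers.exp, PowerSeries.coeff_mk,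
    PowerSeries.coeff_one]
  split_ifs with hn
  · rw [hn, pow_zero, one_mul, γ.dpow_zero hi, map_one]
  · rw [zero_pow hn, zero_mul]

theorem rescale_add_exp (b c : B) {i : A} (hi : i ∈ I) :
    PowerSeries.rescale (b + c) (PowerSeries.map (algebraMap A B) (γ.exp i)) =
      PowerSeries.rescale b (PowerSeries.map (algebraMap A B) (γ.exp i)) *
        PowerSeries.rescale c (PowerSeries.map (algebraMap A B) (γ.exp i)) := PowerSeries.ext fun n => by
  simp only [PowerSeries.coeff_rescale, PowerSeries.coeff_mul, PowerSeries.coeff_map, DividedPowers.exp,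
    PowerSeries.coeff_mk]
  rw [Commute.add_pow' (Commute.all _ _), Finset.sum_mul]
  refine Finset.sum_congr rfl fun k hk => ?_
  rw [mem_antidiagonal] at hk
  rw [nsmul_eq_mul, show b ^ k.1 * algebraMap A B (γ.dpow k.1 i) * (c ^ k.2 * algebraMap A B (γ.dpow k.2 i)) =
    b ^ k.1 * c ^ k.2 * algebraMap A B (γ.dpow k.1 i * γ.dpow k.2 i) by rw [map_mul]; ring,
    γ.mul_dpow hi, hk, map_mul, map_natCast]
  ring

/-- `b ↦ i ↦ Σ b^n γ_n(i) T^n`, to be factored through the tensor product. -/
noncomputable def expPair : B →+ I →+ Additive (PowerSeries B) where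
  toFun b :=
    { toFun := fun i => Additive.ofMul (PowerSeries.rescale b (PowerSeries.map (algebraMap A B) (γ.exp i.1)))
      map_zero' := by rw [ZeroMemClass.coe_zero, exp_zero, map_one, map_one]; rfl
      map_add' := fun i j => by
        rw [Submodule.coe_add, γ.exp_add i.2 j.2, map_mul, map_mul]
        rfl }
  map_zero' := AddMonoidHom.ext fun i => congrArg Additive.ofMul (rescale_zero_exp γ i.2)
  map_add' b c := AddMonoidHom.ext fun i => congrArg Additive.ofMul (rescale_add_exp γ b c i.2)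

theorem expPair_apply (b : B) (i : I) :
    Additive.toMul (expPair γ b i) = PowerSeries.rescale b (PowerSeries.map (algebraMap A B) (γ.exp i.1)) := rfl

theorem exists_dp_ext_of_flat [Module.Flat A B] :
    ∃ δ : DividedPowers (I.map (algebraMap A B)), γ.IsDPMorphism δ (algebraMap A B) := by
  classical
  let E : B ⊗[A] I →+ Additive (PowerSeries B) := TensorProduct.liftAddHom (expPair γ) fun r b i => by
    apply Additive.toMul.injective
    rw [expPair_apply, expPair_apply]
    ext n
    simp only [PowerSeries.coeff_rescale, PowerSeries.coeff_map, DividedPowers.exp, PowerSeries.coeff_mk,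
      Submodule.coe_smul, smul_eq_mul]
    rw [γ.dpow_mul i.2, map_mul, map_pow, Algebra.smul_def, mul_pow]
    ring
  let F : B ⊗[A] I → PowerSeries B := fun t => Additive.toMul (E t)
  have hF : ∀ b i, F (b ⊗ₜ i) = PowerSeries.rescale b (PowerSeries.map (algebraMap A B) (γ.exp i.1)) :=
    fun b i => rfl
  have hFadd : ∀ s t, F (s + t) = F s * F t := fun s t => by simp only [F, map_add, toMul_add]
  let μ : B ⊗[A] I →ₗ[A] B :=
    (TensorProduct.rid A B).toLinearMap.comp (LinearMap.lTensor B I.subtype)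
  have hμinj : Function.Injective μ := (TensorProduct.rid A B).injective.comp
    (Module.Flat.lTensor_preserves_injective_linearMap I.subtype Subtype.val_injective)
  have hμ : ∀ b i, μ (b ⊗ₜ i) = b * algebraMap A B i.1 := fun b i => by
    simp [μ, Algebra.smul_def, mul_comm]
  have hsc : ∀ (a : B) t, μ (LinearMap.rTensor I (LinearMap.mulLeft A a) t) = a * μ t ∧
      F (LinearMap.rTensor I (LinearMap.mulLeft A a) t) = PowerSeries.rescale a (F t) := by
    intro a t
    induction t using TensorProduct.induction_on with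
    | zero => simp [F]
    | tmul b i =>
      rw [LinearMap.rTensor_tmul, LinearMap.mulLeft_apply, hμ, hμ, hF, hF, PowerSeries.rescale_rescale,
        mul_comm b a, mul_assoc]
      exact ⟨rfl, rfl⟩
    | add s t hs ht => exact ⟨by rw [map_add, map_add, map_add, hs.1, ht.1, mul_add],
        by rw [map_add, hFadd, hFadd, hs.2, ht.2, map_mul]⟩
  have hμmem : ∀ t, μ t ∈ I.map (algebraMap A B) := fun t => by
    induction t using TensorProduct.induction_on with
    | zero => simp
    | tmul b i => rw [hμ]; exact Ideal.mul_mem_left _ _ (Ideal.mem_map_of_mem _ i.2)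
    | add s t hs ht => rw [map_add]; exact add_mem hs ht
  have hrange : ∀ z ∈ I.map (algebraMap A B), ∃ t, μ t = z := fun z hz => by
    induction hz using Submodule.span_induction with
    | mem z hz => obtain ⟨i, hi, rfl⟩ := hz; exact ⟨1 ⊗ₜ ⟨i, hi⟩, by rw [hμ, one_mul]⟩
    | zero => exact ⟨0, map_zero _⟩
    | add a b _ _ ha hb =>
      obtain ⟨s, rfl⟩ := ha; obtain ⟨t, rfl⟩ := hb; exact ⟨s + t, map_add _ _ _⟩
    | smul r a _ ha => obtain ⟨t, rfl⟩ := ha; exact ⟨_, (hsc r t).1⟩
  let d : ℕ → B → B := fun n z =>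
    if hz : z ∈ I.map (algebraMap A B) then PowerSeries.coeff n (F (hrange z hz).choose) else 0
  have key : ∀ n t, d n (μ t) = PowerSeries.coeff n (F t) := fun n t => by
    simp only [d, dif_pos (hμmem t)]
    rw [hμinj (hrange _ (hμmem t)).choose_spec]
  have hF01 : ∀ t, PowerSeries.coeff 0 (F t) = 1 ∧ PowerSeries.coeff 1 (F t) = μ t ∧
      ∀ n, n ≠ 0 → PowerSeries.coeff n (F t) ∈ I.map (algebraMap A B) := fun t => by
    induction t using TensorProduct.induction_on with
    | zero =>
      refine ⟨by simp [F], by simp [F, PowerSeries.coeff_one], fun n hn => by simp [F, PowerSeries.coeff_one, hn]⟩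
    | tmul b i =>
      simp only [hF, hμ, PowerSeries.coeff_rescale, PowerSeries.coeff_map, DividedPowers.exp, PowerSeries.coeff_mk]
      refine ⟨by rw [γ.dpow_zero i.2, map_one, pow_zero, mul_one], by rw [γ.dpow_one i.2, pow_one], fun n hn => ?_⟩
      exact Ideal.mul_mem_left _ _ (Ideal.mem_map_of_mem _ (γ.dpow_mem hn i.2))
    | add s t hs ht =>
      refine ⟨?_, ?_, fun n hn => ?_⟩
      · rw [hFadd, PowerSeries.coeff_mul, Finset.Nat.antidiagonal_zero, Finset.sum_singleton, hs.1, ht.1, mul_one]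
      · rw [hFadd, PowerSeries.coeff_mul, show antidiagonal 1 = ({(0, 1), (1, 0)} : Finset (ℕ × ℕ)) from rfl,
          Finset.sum_pair (by simp), hs.1, hs.2.1, ht.1, ht.2.1, map_add]
        ring
      · rw [hFadd, PowerSeries.coeff_mul]
        refine Submodule.sum_mem _ fun k hk => ?_
        rw [mem_antidiagonal] at hk
        by_cases h1 : k.1 = 0
        · exact Ideal.mul_mem_left _ _ (ht.2.2 _ (by omega))
        · exact Ideal.mul_mem_right _ _ (hs.2.2 _ h1)
  have hdI : ∀ n x, x ∈ I → d n (algebraMap A B x) = algebraMap A B (γ.dpow n x) := fun n x hx => by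
    have h := key n (1 ⊗ₜ ⟨x, hx⟩)
    rw [hμ, one_mul, hF, PowerSeries.coeff_rescale, one_pow, one_mul, PowerSeries.coeff_map,
      DividedPowers.exp, PowerSeries.coeff_mk] at h
    exact h
  have hd : IsPreDP (I.map (algebraMap A B)) d := by
    refine ⟨fun n x hx => dif_neg hx, fun z hz => ?_, fun z hz => ?_, fun n z hn hz => ?_,
      fun n z w hz hw => ?_, fun n a z hz => ?_⟩
    all_goals obtain ⟨t, rfl⟩ := hrange z hz
    · rw [key]; exact (hF01 t).1
    · rw [key]; exact (hF01 t).2.1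
    · rw [key]; exact (hF01 t).2.2 n hn
    · obtain ⟨s, rfl⟩ := hrange w hw
      rw [← map_add, key, hFadd, PowerSeries.coeff_mul]
      exact Finset.sum_congr rfl fun k _ => by rw [key, key]
    · rw [← (hsc a t).1, key, key, (hsc a t).2, PowerSeries.coeff_rescale]
  obtain ⟨δ, hδ⟩ := hd.exists_dp (S := algebraMap A B '' I) rfl (by
    rintro _ ⟨x, hx, rfl⟩
    refine ⟨fun m n => ?_, fun m n hn => ?_⟩
    · rw [hdI m x hx, hdI n x hx, hdI _ x hx, ← map_mul, γ.mul_dpow hx, map_mul, map_natCast]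
    · rw [hdI n x hx, hdI m _ (γ.dpow_mem hn hx), hdI _ x hx, γ.dpow_comp hn hx, map_mul, map_natCast])
  exact ⟨δ, le_rfl, fun {n} x hx => hδ ▸ hdI n x hx⟩

theorem exists_dp_ext_span_singleton {x : A} (γ : DividedPowers (Ideal.span {x})) :
    ∃ δ : DividedPowers ((Ideal.span {x}).map (algebraMap A B)), γ.IsDPMorphism δ (algebraMap A B) := by
  classical
  have hx : x ∈ Ideal.span ({x} : Set A) := Ideal.mem_span_singleton_self x
  set K := (Ideal.span {x}).map (algebraMap A B) with hK
  have hKs : K = Ideal.span {algebraMap A B x} := by rw [hK, Ideal.map_span, Set.image_singleton]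
  have hrep : ∀ z ∈ K, ∃ b, b * algebraMap A B x = z := fun z hz => by
    rw [hKs, Ideal.mem_span_singleton'] at hz; exact hz
  let g : ℕ → B := fun n => algebraMap A B (γ.dpow n x)
  have hg : ∀ n, n ≠ 0 → ∃ a, g n = algebraMap A B a * algebraMap A B x := fun n hn => by
    obtain ⟨a, ha⟩ := Ideal.mem_span_singleton'.mp (γ.dpow_mem hn hx)
    exact ⟨a, by rw [← map_mul, ha]⟩
  let d : ℕ → B → B := fun n z => if hz : z ∈ K then (hrep z hz).choose ^ n * g n else 0
  have hmemK : ∀ b, b * algebraMap A B x ∈ K := fun b => K.mul_mem_left b (Ideal.mem_map_of_mem _ hx)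
  have key : ∀ n b, d n (b * algebraMap A B x) = b ^ n * g n := fun n b => by
    simp only [d, dif_pos (hmemK b)]
    have hc := (hrep _ (hmemK b)).choose_spec
    set c := (hrep _ (hmemK b)).choose
    rcases Nat.eq_zero_or_pos n with rfl | hn
    · rw [pow_zero, pow_zero]
    · obtain ⟨a, ha⟩ := hg n hn.ne'
      obtain ⟨q, hq⟩ := sub_dvd_pow_sub_pow c b n
      rw [← sub_eq_zero, ← sub_mul, hq, ha]
      linear_combination (q * algebraMap A B a) * hc
  have hd : IsPreDP K d := by
    refine ⟨fun n x hx => dif_neg hx, fun z hz => ?_, fun z hz => ?_, fun n z hn hz => ?_,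
      fun n z w hz hw => ?_, fun n a z hz => ?_⟩
    all_goals obtain ⟨b, rfl⟩ := hrep z hz
    · simp [key, g, γ.dpow_zero hx]
    · simp [key, g, γ.dpow_one hx]
    · rw [key]; exact K.mul_mem_left _ (Ideal.mem_map_of_mem _ (γ.dpow_mem hn hx))
    · obtain ⟨c, rfl⟩ := hrep w hw
      rw [← add_mul, key, Commute.add_pow' (Commute.all _ _), Finset.sum_mul]
      refine Finset.sum_congr rfl fun k hk => ?_
      rw [mem_antidiagonal] at hk
      rw [key, key, nsmul_eq_mul, show b ^ k.1 * g k.1 * (c ^ k.2 * g k.2) = b ^ k.1 * c ^ k.2 * (g k.1 * g k.2) by ring]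
      simp only [g]
      rw [← map_mul, γ.mul_dpow hx, hk, map_mul, map_natCast]
      ring
    · rw [← mul_assoc, key, key, mul_pow, mul_assoc]
  have hdI : ∀ n a, d n (algebraMap A B (a * x)) = algebraMap A B (γ.dpow n (a * x)) := fun n a => by
    rw [map_mul, key, γ.dpow_mul hx, map_mul, map_pow]
  have hdx : ∀ n y, y ∈ Ideal.span ({x} : Set A) → d n (algebraMap A B y) = algebraMap A B (γ.dpow n y) :=
    fun n y hy => by obtain ⟨a, rfl⟩ := Ideal.mem_span_singleton'.mp hy; exact hdI n a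
  obtain ⟨δ, hδ⟩ := hd.exists_dp (S := algebraMap A B '' (Ideal.span {x} : Ideal A)) rfl (by
    rintro _ ⟨y, hy, rfl⟩
    refine ⟨fun m n => ?_, fun m n hn => ?_⟩
    · rw [hdx m y hy, hdx n y hy, hdx _ y hy, ← map_mul, γ.mul_dpow hy, map_mul, map_natCast]
    · rw [hdx n y hy, hdx m _ (γ.dpow_mem hn hy), hdx _ y hy, γ.dpow_comp hn hy, map_mul, map_natCast])
  exact ⟨δ, le_rfl, fun {n} y hy => hδ ▸ hdx n y hy⟩

end ext

end Groth.AdicLinTop.DP
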