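import Groth.Agent.AdicLinTop.DP.Partial
import Mathlib.RingTheory.DividedPowers.SubDPIdeal
import Mathlib.RingTheory.TensorProduct.Free
import Mathlib.RingTheory.TensorProduct.Maps
import Mathlib.Tactic.FieldSimp
import Mathlib.Tactic.LinearCombination
import Mathlib.Algebra.MvPolynomial.CommRing
import Mathlib.Algebra.CharP.Algebra
import Mathlib.Algebra.Module.Torsion.Field
import Mathlib.Data.Rat.Cast.CharZero

/-!
Divided power polynomial algebras given by presentations: universal property, existence of the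
divided power structure on the augmentation ideal, and a model over every ring.
-/

universe u v w z

open Finset TensorProduct

namespace Groth.AdicLinTop.DP

section pres

variable {R : Type u} [CommRing R] {Λ : Type w} {P : Type v} [CommRing P] [Algebra R P]

/-- `x l n` behaves as `X_l^[n]` in a divided power polynomial algebra with monomial basis `b`. -/
structure IsPres (x : Λ → ℕ → P) (b : Module.Basis (Λ →₀ ℕ) R P) : Prop where
  zero : ∀ l, x l 0 = 1
  mul : ∀ l n m, x l n * x l m = ((n + m).choose n : P) * x l (n + m)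
  basis : ∀ e : Λ →₀ ℕ, b e = e.prod (fun l k => x l k)

open Classical in
/-- Product of the binomial coefficients of two exponent vectors. -/
noncomputable def multChoose (e f : Λ →₀ ℕ) : ℕ :=
  ∏ l ∈ e.support ∪ f.support, (e l + f l).choose (e l)

theorem prod_mul_prod {S : Type z} [CommRing S] (s : Λ → ℕ → S) (h0 : ∀ l, s l 0 = 1)
    (hmul : ∀ l n m, s l n * s l m = ((n + m).choose n : S) * s l (n + m)) (e f : Λ →₀ ℕ) :
    e.prod (fun l k => s l k) * f.prod (fun l k => s l k) =
      (multChoose e f : S) * (e + f).prod (fun l k => s l k) := by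
  classical
  rw [Finsupp.prod_of_support_subset _ subset_union_left _ (fun l _ => h0 l),
    Finsupp.prod_of_support_subset _ subset_union_right _ (fun l _ => h0 l),
    Finsupp.prod_of_support_subset _ Finsupp.support_add _ (fun l _ => h0 l), multChoose, Nat.cast_prod,
    ← Finset.prod_mul_distrib, ← Finset.prod_mul_distrib]
  exact Finset.prod_congr rfl fun l _ => hmul l _ _

/-- The augmentation ideal. -/
def plus (x : Λ → ℕ → P) : Ideal P := Ideal.span {y : P | ∃ (l : Λ) (n : ℕ), 1 ≤ n ∧ y = x l n}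

theorem mem_plus (x : Λ → ℕ → P) (l : Λ) {n : ℕ} (hn : 1 ≤ n) : x l n ∈ plus x :=
  Ideal.subset_span ⟨l, n, hn, rfl⟩

variable {x : Λ → ℕ → P} {b : Module.Basis (Λ →₀ ℕ) R P} (hP : IsPres x b)

include hP

theorem IsPres.x_eq (l : Λ) (n : ℕ) : x l n = b (Finsupp.single l n) := by
  rw [hP.basis, Finsupp.prod_single_index (hP.zero l)]

theorem IsPres.b_zero : b 0 = 1 := by rw [hP.basis, Finsupp.prod_zero_index]

theorem IsPres.b_mul (e f : Λ →₀ ℕ) : b e * b f = multChoose e f • b (e + f) := by
  rw [hP.basis, hP.basis, hP.basis, prod_mul_prod x hP.zero hP.mul, nsmul_eq_mul]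

theorem IsPres.factorial_mul (l : Λ) (n : ℕ) : (n.factorial : P) * x l n = x l 1 ^ n := by
  induction n with
  | zero => simp [hP.zero]
  | succ n ih =>
    rw [pow_succ, ← ih, mul_assoc, hP.mul, Nat.choose_succ_self_right, Nat.factorial_succ]
    push_cast
    ring

variable {S : Type z} [CommRing S] [Algebra R S] {s : Λ → ℕ → S} (h0 : ∀ l, s l 0 = 1)
  (hmul : ∀ l n m, s l n * s l m = ((n + m).choose n : S) * s l (n + m))

include h0 hmul in
/-- Universal property of a presentation for sequences satisfying the product rule. -/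
theorem IsPres.exists_lift : ∃ φ : P →ₐ[R] S, ∀ l n, φ (x l n) = s l n := by
  let φ : P →ₗ[R] S := b.constr R fun e => e.prod fun l k => s l k
  have hb : ∀ e, φ (b e) = e.prod (fun l k => s l k) := fun e => b.constr_basis R _ e
  have h1 : φ 1 = 1 := by rw [← hP.b_zero, hb, Finsupp.prod_zero_index]
  have hm : ∀ p q, φ (p * q) = φ p * φ q := by
    suffices h : (LinearMap.mul R P).compr₂ φ = ((LinearMap.mul R S).comp φ).compl₂ φ from
      fun p q => LinearMap.congr_fun₂ h p q
    refine b.ext fun e => b.ext fun f => ?_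
    simp only [LinearMap.compr₂_apply, LinearMap.mul_apply', LinearMap.compl₂_apply, LinearMap.comp_apply]
    rw [hP.b_mul, map_nsmul, hb, hb, hb, prod_mul_prod s h0 hmul, nsmul_eq_mul]
  refine ⟨AlgHom.ofLinearMap φ h1 hm, fun l n => ?_⟩
  show φ (x l n) = _
  rw [hP.x_eq, hb, Finsupp.prod_single_index (h0 l)]

theorem IsPres.algHom_ext {φ ψ : P →ₐ[R] S} (h : ∀ l n, φ (x l n) = ψ (x l n)) : φ = ψ := by
  refine AlgHom.toLinearMap_injective (b.ext fun e => ?_)
  simp only [AlgHom.toLinearMap_apply, hP.basis, map_finsuppProd, h]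

theorem IsPres.b_mem_plus {e : Λ →₀ ℕ} (he : e ≠ 0) : b e ∈ plus x := by
  classical
  obtain ⟨l, hl⟩ := Finsupp.support_nonempty_iff.mpr he
  rw [hP.basis, Finsupp.prod, ← Finset.mul_prod_erase _ _ hl]
  exact (plus x).mul_mem_right _ (mem_plus x l (Nat.one_le_iff_ne_zero.mpr (Finsupp.mem_support_iff.mp hl)))

theorem IsPres.mem_plus_iff {y : P} : y ∈ plus x ↔ b.repr y 0 = 0 := by
  classical
  refine ⟨fun hy => ?_, fun hy => ?_⟩
  · let s : Λ → ℕ → R := fun _ n => if n = 0 then 1 else 0
    obtain ⟨ε, hε⟩ := hP.exists_lift (S := R) (s := s) (fun l => if_pos rfl) fun l n m => by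
      rcases Nat.eq_zero_or_pos n with rfl | hn
      · simp [s]
      · simp [s, Nat.ne_of_gt hn, show n + m ≠ 0 by omega]
    have hle : plus x ≤ RingHom.ker ε.toRingHom := Ideal.span_le.mpr <| by
      rintro _ ⟨l, n, hn, rfl⟩
      show ε (x l n) = 0
      rw [hε]
      exact if_neg (by omega)
    have h2 : ε.toLinearMap = (Finsupp.lapply 0).comp b.repr.toLinearMap := b.ext fun e => by
      simp only [AlgHom.toLinearMap_apply, LinearMap.comp_apply, LinearEquiv.coe_coe, Module.Basis.repr_self,
        Finsupp.lapply_apply]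
      rw [hP.basis, map_finsuppProd]
      simp only [hε, Finsupp.single_apply]
      rcases eq_or_ne e 0 with rfl | he
      · simp
      · obtain ⟨l, hl⟩ := Finsupp.support_nonempty_iff.mpr he
        rw [if_neg he]
        exact Finset.prod_eq_zero hl (if_neg (Finsupp.mem_support_iff.mp hl))
    exact (LinearMap.congr_fun h2 y).symm.trans (hle hy)
  · rw [← b.linearCombination_repr y, Finsupp.linearCombination_apply]
    refine Submodule.sum_mem _ fun e he => ?_
    have : e ≠ 0 := fun h => Finsupp.mem_support_iff.mp he (h ▸ hy)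
    show (b.repr y e) • b e ∈ plus x
    rw [Algebra.smul_def]
    exact (plus x).mul_mem_left _ (hP.b_mem_plus this)

/-- Divided powers on the augmentation ideal in the torsion free case. -/
theorem IsPres.exists_dp_of_torsionFree [IsAddTorsionFree P] :
    ∃ γ : DividedPowers (plus x), ∀ l n, γ.dpow n (x l 1) = x l n := by
  have h : plus x ≤ divIdeal (plus x) := Ideal.span_le.mpr <| by
    rintro _ ⟨l, n, hn, rfl⟩
    refine ⟨mem_plus x l hn, fun m hm => ⟨(Nat.uniformBell m n : P) * x l (m * n),
      (plus x).mul_mem_left _ (mem_plus x l (Nat.one_le_iff_ne_zero.mpr (by positivity))), ?_⟩⟩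
    refine nsmul_right_injective (n := n.factorial ^ m) (pow_ne_zero _ (Nat.factorial_ne_zero n)) ?_
    simp only [nsmul_eq_mul, Nat.cast_pow]
    rw [← mul_pow, hP.factorial_mul, ← pow_mul, mul_comm n m, ← hP.factorial_mul,
      ← uniformBell_eq_mul m n (by omega)]
    push_cast
    ring
  refine ⟨ofTorsionFree (plus x) (fun y hy => (h hy).2), fun l n => cancel_factorial (n := n) ?_⟩
  rw [(ofTorsionFree (plus x) _).factorial_mul_dpow_eq_pow (mem_plus x l le_rfl), hP.factorial_mul]

theorem IsPres.dpow_x (γ : DividedPowers (plus x)) (hγ : ∀ l n, γ.dpow n (x l 1) = x l n) (l : Λ) (m : ℕ)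
    {n : ℕ} (hn : n ≠ 0) : γ.dpow m (x l n) = (Nat.uniformBell m n : P) * x l (m * n) := by
  rw [← hγ l n, γ.dpow_comp hn (mem_plus x l le_rfl), hγ]

theorem IsPres.dp_unique (γ γ' : DividedPowers (plus x)) (hγ : ∀ l n, γ.dpow n (x l 1) = x l n)
    (hγ' : ∀ l n, γ'.dpow n (x l 1) = x l n) : γ = γ' :=
  DividedPowers.dpow_eq_from_gens γ' γ rfl fun {m} a ha => by
    obtain ⟨l, n, hn, rfl⟩ := ha
    rw [hP.dpow_x γ hγ l m (by omega), hP.dpow_x γ' hγ' l m (by omega)]

end pres

section model

variable (Λ : Type w)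

/-- `X_l^n / n!`. -/
noncomputable def divMon (l : Λ) (n : ℕ) : MvPolynomial Λ ℚ :=
  MvPolynomial.monomial (Finsupp.single l n) ((n.factorial : ℚ)⁻¹)

theorem divMon_zero (l : Λ) : divMon Λ l 0 = 1 := by simp [divMon]

theorem divMon_mul (l : Λ) (n m : ℕ) :
    divMon Λ l n * divMon Λ l m = ((n + m).choose n : MvPolynomial Λ ℚ) * divMon Λ l (n + m) := by
  rw [divMon, divMon, divMon, MvPolynomial.monomial_mul, ← Finsupp.single_add, ← map_natCast (MvPolynomial.C : ℚ →+* MvPolynomial Λ ℚ),
    MvPolynomial.C_mul_monomial]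
  congr 1
  have h1 := Nat.factorial_ne_zero n
  have h2 := Nat.factorial_ne_zero m
  have h3 : ((n + m).choose n : ℚ) * n.factorial * m.factorial = (n + m).factorial := by
    rw [Nat.choose_symm_add]
    exact_mod_cast Nat.add_choose_mul_factorial_mul_factorial n m
  have h4 : ((n + m).factorial : ℚ) ≠ 0 := by exact_mod_cast Nat.factorial_ne_zero _
  field_simp
  linear_combination -h3

theorem prod_divMon (e : Λ →₀ ℕ) :
    e.prod (fun l k => divMon Λ l k) = MvPolynomial.monomial e (∏ l ∈ e.support, ((e l).factorial : ℚ)⁻¹) := by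
  rw [Finsupp.prod]
  simp only [divMon]
  rw [← MvPolynomial.monomial_sum_prod]
  rw [show ∑ i ∈ e.support, Finsupp.single i (e i) = e from e.sum_single]

/-- The ℤ-submodule spanned by the divided power monomials. -/
noncomputable def modelSpan : Submodule ℤ (MvPolynomial Λ ℚ) :=
  Submodule.span ℤ (Set.range fun e : Λ →₀ ℕ => e.prod (fun l k => divMon Λ l k))

/-- The divided power polynomial algebra over ℤ. -/
noncomputable def Model : Subalgebra ℤ (MvPolynomial Λ ℚ) :=
  (modelSpan Λ).toSubalgebra (Submodule.subset_span (R := ℤ) (s := Set.range fun e : Λ →₀ ℕ => e.prod (fun l k => divMon Λ l k)) (Set.mem_range.mpr ⟨0, Finsupp.prod_zero_index⟩) : (1 : MvPolynomial Λ ℚ) ∈ modelSpan Λ) fun p q hp hq => by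
    induction hp using Submodule.span_induction with
    | mem p hp =>
      induction hq using Submodule.span_induction with
      | mem q hq =>
        obtain ⟨e, rfl⟩ := hp
        obtain ⟨f, rfl⟩ := hq
        rw [prod_mul_prod _ (divMon_zero Λ) (divMon_mul Λ), ← nsmul_eq_mul]
        exact nsmul_mem (Submodule.subset_span (R := ℤ)
          (s := Set.range fun e : Λ →₀ ℕ => e.prod (fun l k => divMon Λ l k)) ⟨_, rfl⟩) _
      | zero => rw [mul_zero]; exact zero_mem _
      | add a c _ _ ha hc => rw [mul_add]; exact add_mem ha hc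
      | smul r a _ ha => rw [mul_smul_comm]; exact Submodule.smul_mem _ r ha
    | zero => rw [zero_mul]; exact zero_mem _
    | add a c _ _ ha hc => rw [add_mul]; exact add_mem ha hc
    | smul r a _ ha => rw [smul_mul_assoc]; exact Submodule.smul_mem _ r ha

/-- The generators of the model. -/
noncomputable def modelX (l : Λ) (n : ℕ) : Model Λ :=
  ⟨divMon Λ l n, Submodule.subset_span ⟨Finsupp.single l n, Finsupp.prod_single_index (divMon_zero Λ l)⟩⟩

theorem coe_prod_modelX (e : Λ →₀ ℕ) :
    ((e.prod (fun l k => modelX Λ l k) : Model Λ) : MvPolynomial Λ ℚ) = e.prod (fun l k => divMon Λ l k) := by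
  rw [Finsupp.prod, Finsupp.prod, SubmonoidClass.coe_finsetProd]
  rfl

theorem linearIndependent_divMon :
    LinearIndependent ℤ (fun e : Λ →₀ ℕ => e.prod (fun l k => divMon Λ l k)) := by
  classical
  refine linearIndependent_iff'.mpr fun s g hg e he => ?_
  have h := congrArg (MvPolynomial.coeff e) hg
  simp only [prod_divMon, MvPolynomial.coeff_sum, MvPolynomial.coeff_zero] at h
  rw [Finset.sum_eq_single e] at h
  · rw [zsmul_eq_mul, ← map_intCast (MvPolynomial.C : ℚ →+* MvPolynomial Λ ℚ), MvPolynomial.coeff_C_mul, MvPolynomial.coeff_monomial,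
      if_pos rfl] at h
    have hne : ∏ l ∈ e.support, ((e l).factorial : ℚ)⁻¹ ≠ 0 :=
      Finset.prod_ne_zero_iff.mpr fun l _ => inv_ne_zero (Nat.cast_ne_zero.mpr (Nat.factorial_ne_zero _))
    exact_mod_cast (mul_eq_zero.mp h).resolve_right hne
  · intro f _ hfe
    rw [zsmul_eq_mul, ← map_intCast (MvPolynomial.C : ℚ →+* MvPolynomial Λ ℚ), MvPolynomial.coeff_C_mul, MvPolynomial.coeff_monomial,
      if_neg hfe, mul_zero]
  · exact fun h => (h he).elim

theorem exists_model_basis : ∃ b : Module.Basis (Λ →₀ ℕ) ℤ (Model Λ), IsPres (modelX Λ) b := by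
  let b : Module.Basis (Λ →₀ ℕ) ℤ (Model Λ) := Module.Basis.span (linearIndependent_divMon Λ)
  refine ⟨b, ⟨fun l => Subtype.ext (divMon_zero Λ l), fun l n m => Subtype.ext ?_, fun e => Subtype.ext ?_⟩⟩
  · simp only [modelX, MulMemClass.coe_mul, SubringClass.coe_natCast]
    exact divMon_mul Λ l n m
  · rw [coe_prod_modelX]
    exact congrArg Subtype.val (Module.Basis.span_apply (linearIndependent_divMon Λ) e)

/-- The divided power polynomial algebra over `R`. -/
abbrev Alg (R : Type u) [CommRing R] (Λ : Type w) : Type (max u w) := R ⊗[ℤ] (Model Λ)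

/-- The generators. -/
noncomputable def algX (R : Type u) [CommRing R] (l : Λ) (n : ℕ) : Alg R Λ :=
  (Algebra.TensorProduct.includeRight : Model Λ →ₐ[ℤ] Alg R Λ) (modelX Λ l n)

theorem exists_alg_basis (R : Type u) [CommRing R] :
    ∃ b : Module.Basis (Λ →₀ ℕ) R (Alg R Λ), IsPres (algX Λ R) b := by
  obtain ⟨b, hb⟩ := exists_model_basis Λ
  refine ⟨Algebra.TensorProduct.basis R b, ⟨fun l => ?_, fun l n m => ?_, fun e => ?_⟩⟩
  · rw [algX, hb.zero, map_one]
  · rw [algX, algX, algX, ← map_mul, hb.mul, map_mul, map_natCast]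
  · rw [Algebra.TensorProduct.basis_apply, hb.basis]
    exact map_finsuppProd (Algebra.TensorProduct.includeRight : Model Λ →ₐ[ℤ] Alg R Λ) e _

end model

section exist

variable {R : Type u} [CommRing R] {Λ : Type w} {P : Type v} [CommRing P] [Algebra R P]
  {x : Λ → ℕ → P} {b : Module.Basis (Λ →₀ ℕ) R P}

theorem IsPres.exists_dp (hP : IsPres x b) :
    ∃ γ : DividedPowers (plus x), ∀ l n, γ.dpow n (x l 1) = x l n := by
  classical
  let R' := MvPolynomial R ℤ
  let ρ : R' →+* R := (MvPolynomial.aeval (id : R → R)).toRingHom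
  have hρ : Function.Surjective ρ := fun r => ⟨MvPolynomial.X r, MvPolynomial.aeval_X _ r⟩
  letI : Algebra R' P := ((algebraMap R P).comp ρ).toAlgebra
  obtain ⟨b', hb'⟩ := exists_alg_basis Λ R'
  haveI : IsAddTorsionFree (Alg R' Λ) := ⟨fun n hn p q h => b'.repr.injective (Finsupp.ext fun e =>
    MvPolynomial.ext _ _ fun d => by
      have h' : n • b'.repr p e = n • b'.repr q e := by
        rw [← Finsupp.smul_apply, ← Finsupp.smul_apply, ← map_nsmul, ← map_nsmul]
        exact congrArg (fun z => b'.repr z e) h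
      rw [nsmul_eq_mul, nsmul_eq_mul] at h'
      haveI : CharZero R' := charZero_of_injective_ringHom (MvPolynomial.C_injective R ℤ)
      rw [mul_left_cancel₀ (Nat.cast_ne_zero.mpr hn) h'])⟩
  obtain ⟨γ', hγ'⟩ := hb'.exists_dp_of_torsionFree
  obtain ⟨φ, hφ⟩ := hb'.exists_lift (S := P) (s := x) hP.zero hP.mul
  have hφb : ∀ e, φ (b' e) = b e := fun e => by
    rw [hb'.basis, hP.basis, map_finsuppProd]; simp only [hφ]
  have hφc : ∀ (r : R') (e : Λ →₀ ℕ), φ (r • b' e) = ρ r • b e := fun r e => by
    rw [map_smul, hφb, Algebra.smul_def, Algebra.smul_def]; rfl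
  have hsurj : Function.Surjective φ := fun y => by
    choose σ hσ using hρ
    refine ⟨(b.repr y).sum fun e c => σ c • b' e, ?_⟩
    rw [map_finsuppSum]
    simp only [hφc, hσ]
    exact b.linearCombination_repr y
  have hrepr : ∀ (y : Alg R' Λ) (e : Λ →₀ ℕ), b.repr (φ y) e = ρ (b'.repr y e) := fun y e => by
    conv_lhs => rw [← b'.linearCombination_repr y, Finsupp.linearCombination_apply, map_finsuppSum]
    simp only [hφc]
    rw [map_finsuppSum]
    simp only [map_smul, Module.Basis.repr_self, Finsupp.smul_single, smul_eq_mul, mul_one]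
    rw [Finsupp.sum_apply]
    simp only [Finsupp.single_apply]
    rw [Finsupp.sum, Finset.sum_ite_eq']
    split_ifs with h
    · rfl
    · rw [Finsupp.notMem_support_iff.mp h, map_zero]
  let T : Ideal (Alg R' Λ) := agreeIdeal γ' φ.toRingHom ⊤ (fun m _ => if m = 0 then 1 else 0)
    (fun _ => True) (fun _ => ⟨trivial, trivial⟩) (fun _ _ => if_pos rfl)
    (fun n _ _ _ _ _ => by
      rcases Nat.eq_zero_or_pos n with rfl | hn
      · simp
      · rw [if_neg hn.ne', Finset.sum_eq_zero]
        intro k hk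
        rw [mem_antidiagonal] at hk
        by_cases h : k.1 = 0
        · rw [if_neg (show k.2 ≠ 0 by omega), mul_zero]
        · rw [if_neg h, zero_mul])
    (fun n _ a _ _ => by rcases Nat.eq_zero_or_pos n with rfl | hn <;> simp [Nat.ne_of_gt, *])
  have hIf : DividedPowers.IsSubDPIdeal γ' (RingHom.ker φ.toRingHom ⊓ plus (algX Λ R')) := by
    refine ⟨inf_le_right, fun m hm y hy => ⟨?_, γ'.dpow_mem hm hy.2⟩⟩
    have hmem : y ∈ T := by
      rw [← b'.linearCombination_repr y, Finsupp.linearCombination_apply]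
      refine Submodule.sum_mem _ fun e he => ?_
      have he0 : e ≠ 0 := fun h =>
        Finsupp.mem_support_iff.mp he (h ▸ hb'.mem_plus_iff.mp hy.2)
      have hρ0 : ρ (b'.repr y e) = 0 := by
        rw [← hrepr, (show φ y = 0 from hy.1), map_zero, Finsupp.zero_apply]
      show b'.repr y e • b' e ∈ T
      refine mem_agreeIdeal_iff.mpr ⟨?_, trivial, fun n _ => ?_⟩
      · exact Submodule.smul_of_tower_mem _ _ (hb'.b_mem_plus he0)
      · rcases Nat.eq_zero_or_pos n with rfl | hn
        · rw [if_pos rfl, γ'.dpow_zero, map_one]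
          exact Submodule.smul_of_tower_mem _ _ (hb'.b_mem_plus he0)
        · rw [if_neg hn.ne']
          erw [Algebra.smul_def (R := R') (A := Alg R' Λ)]
          rw [γ'.dpow_mul (hb'.b_mem_plus he0), map_mul, map_pow]
          show (φ (algebraMap R' _ _)) ^ n * _ = 0
          erw [φ.commutes]
          rw [show algebraMap R' P (b'.repr y e) = algebraMap R P (ρ (b'.repr y e)) from rfl,
            hρ0, map_zero, zero_pow hn.ne', zero_mul]
    have := (mem_agreeIdeal_iff.mp hmem).2.2 m trivial
    rw [if_neg hm] at this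
    exact this
  have hIJ : plus x = (plus (algX Λ R')).map φ.toRingHom := by
    rw [plus, plus, Ideal.map_span]
    congr 1
    ext y
    constructor
    · rintro ⟨l, n, hn, rfl⟩; exact ⟨_, ⟨l, n, hn, rfl⟩, hφ l n⟩
    · rintro ⟨_, ⟨l, n, hn, rfl⟩, rfl⟩; exact ⟨l, n, hn, hφ l n⟩
  refine ⟨DividedPowers.Quotient.OfSurjective.dividedPowers γ' hsurj hIJ hIf, fun l n => ?_⟩
  rw [← hφ l 1, ← hφ l n, ← hγ' l n]
  exact DividedPowers.Quotient.OfSurjective.dpow_apply γ' hsurj hIJ hIf (mem_plus _ l le_rfl)

end exist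

end Groth.AdicLinTop.DP
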