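import Groth.Agent.AdicLinTop.DP.Free

/-!
Divided power structures from generators.
-/

universe u

open Finset

namespace Groth.AdicLinTop.DP

variable {A : Type u} [CommRing A]

/-- The axioms of divided powers, other than the product and composition rules. -/
structure IsPreDP (I : Ideal A) (d : ℕ → A → A) : Prop where
  null : ∀ n x, x ∉ I → d n x = 0
  zero : ∀ x ∈ I, d 0 x = 1
  one : ∀ x ∈ I, d 1 x = x
  mem : ∀ n x, n ≠ 0 → x ∈ I → d n x ∈ I
  add : ∀ n x y, x ∈ I → y ∈ I → d n (x + y) = ∑ k ∈ antidiagonal n, d k.1 x * d k.2 y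
  mul : ∀ n a x, x ∈ I → d n (a * x) = a ^ n * d n x

/-- The product and composition rules at a single element. -/
def IsGood (d : ℕ → A → A) (x : A) : Prop :=
  (∀ m n, d m x * d n x = ((m + n).choose m : A) * d (m + n) x) ∧
    (∀ m n, n ≠ 0 → d m (d n x) = (Nat.uniformBell m n : A) * d (m * n) x)

variable {I : Ideal A} {d : ℕ → A → A} (hd : IsPreDP I d)

include hd

theorem IsPreDP.eval_zero {n : ℕ} (hn : n ≠ 0) : d n 0 = 0 := by
  have := hd.mul n 0 0 I.zero_mem
  rwa [mul_zero, zero_pow hn, zero_mul] at this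

theorem IsPreDP.good_mul {x : A} (hx : x ∈ I) (h : IsGood d x) (a : A) : IsGood d (a * x) := by
  refine ⟨fun m n => ?_, fun m n hn => ?_⟩
  · rw [hd.mul _ a x hx, hd.mul _ a x hx, hd.mul _ a x hx, pow_add]
    linear_combination (a ^ m * a ^ n) * h.1 m n
  · rw [hd.mul _ a x hx, hd.mul _ _ _ (hd.mem n x hn hx), hd.mul _ a x hx, h.2 m n hn, ← pow_mul,
      mul_comm n m]
    ring

theorem IsPreDP.good_zero : IsGood d 0 := by
  refine ⟨fun m n => ?_, fun m n hn => ?_⟩
  · rcases Nat.eq_zero_or_pos m with rfl | hm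
    · rw [hd.zero 0 I.zero_mem, zero_add, Nat.choose_zero_right, Nat.cast_one]
    · rw [hd.eval_zero hm.ne', hd.eval_zero (show m + n ≠ 0 by omega), zero_mul, mul_zero]
  · rw [hd.eval_zero hn]
    rcases Nat.eq_zero_or_pos m with rfl | hm
    · rw [hd.zero 0 I.zero_mem, Nat.uniformBell_zero_left, Nat.cast_one, zero_mul, hd.zero 0 I.zero_mem,
        mul_one]
    · rw [hd.eval_zero hm.ne', hd.eval_zero (mul_ne_zero hm.ne' hn), mul_zero]

theorem IsPreDP.good_add {x y : A} (hx : x ∈ I) (hy : y ∈ I) (gx : IsGood d x) (gy : IsGood d y) :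
    IsGood d (x + y) := by
  obtain ⟨b, hP⟩ := exists_alg_basis (Fin 2) ℤ
  obtain ⟨γ, hγ⟩ := hP.exists_dp
  let v : Fin 2 → A := ![x, y]
  have hv : ∀ l, v l ∈ I := by intro l; fin_cases l <;> simp [v, hx, hy]
  have gv : ∀ l, IsGood d (v l) := by intro l; fin_cases l <;> simp [v, gx, gy]
  obtain ⟨φ, hφ⟩ := hP.exists_lift (S := A) (s := fun l n => d n (v l)) (fun l => hd.zero _ (hv l))
    (fun l n m => (gv l).1 n m)
  let X := algX (Fin 2) ℤ
  have hX : ∀ l, X l 1 ∈ plus X := fun l => mem_plus X l le_rfl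
  have hsum : ∀ n, φ (γ.dpow n (X 0 1 + X 1 1)) = d n (x + y) := fun n => by
    rw [γ.dpow_add (hX 0) (hX 1), map_sum, hd.add n x y hx hy]
    exact Finset.sum_congr rfl fun k _ => by rw [map_mul, hγ, hγ, hφ, hφ]; rfl
  refine ⟨fun m n => ?_, fun m n hn => ?_⟩
  · have h := congrArg φ (γ.mul_dpow (m := m) (n := n) ((plus X).add_mem (hX 0) (hX 1)))
    rwa [map_mul, map_mul, map_natCast, hsum, hsum, hsum] at h
  · have hle : plus X ≤ agreeIdeal γ φ.toRingHom I d (fun _ => True) (fun _ => ⟨trivial, trivial⟩)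
        hd.zero (fun n _ => hd.add n) (fun n _ => hd.mul n) := Ideal.span_le.mpr <| by
      rintro _ ⟨l, k, hk, rfl⟩
      refine mem_agreeIdeal_iff.mpr ⟨mem_plus X l hk, ?_, fun j _ => ?_⟩
      · show φ (X l k) ∈ I
        rw [hφ]; exact hd.mem _ _ (by omega) (hv l)
      · show φ (γ.dpow j (X l k)) = d j (φ (X l k))
        rw [hP.dpow_x γ hγ l j (by omega), map_mul, map_natCast, hφ, hφ, (gv l).2 j k (by omega)]
    have hz := mem_agreeIdeal_iff.mp (hle (γ.dpow_mem hn ((plus X).add_mem (hX 0) (hX 1))))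
    have h := hz.2.2 m trivial
    change φ (γ.dpow m (γ.dpow n _)) = d m (φ (γ.dpow n _)) at h
    rw [γ.dpow_comp hn ((plus X).add_mem (hX 0) (hX 1)), map_mul, map_natCast, hsum, hsum] at h
    exact h.symm

theorem IsPreDP.good_of_span {S : Set A} (hS : Ideal.span S = I) (h : ∀ x ∈ S, IsGood d x) {x : A}
    (hx : x ∈ I) : IsGood d x := by
  suffices H : ∀ x ∈ Ideal.span S, x ∈ I ∧ IsGood d x from (H x (hS ▸ hx)).2
  intro x hx
  induction hx using Submodule.span_induction with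
  | mem x hx => exact ⟨hS ▸ Ideal.subset_span hx, h x hx⟩
  | zero => exact ⟨I.zero_mem, hd.good_zero⟩
  | add a b _ _ ha hb => exact ⟨I.add_mem ha.1 hb.1, hd.good_add ha.1 hb.1 ha.2 hb.2⟩
  | smul r a _ ha => exact ⟨I.smul_mem r ha.1, hd.good_mul ha.1 ha.2 r⟩

/-- Divided powers from a generating set. -/
theorem IsPreDP.exists_dp {S : Set A} (hS : Ideal.span S = I) (h : ∀ x ∈ S, IsGood d x) :
    ∃ γ : DividedPowers I, γ.dpow = d :=
  ⟨{ dpow := d
     dpow_null := fun {n x} hx => hd.null n x hx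
     dpow_zero := fun {x} hx => hd.zero x hx
     dpow_one := fun {x} hx => hd.one x hx
     dpow_mem := fun {n x} hn hx => hd.mem n x hn hx
     dpow_add := fun {n x y} hx hy => hd.add n x y hx hy
     dpow_mul := fun {n a x} hx => hd.mul n a x hx
     mul_dpow := fun {m n x} hx => (hd.good_of_span hS h hx).1 m n
     dpow_comp := fun {m n x} hn hx => (hd.good_of_span hS h hx).2 m n hn }, rfl⟩

end Groth.AdicLinTop.DP
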