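import Mathlib.RingTheory.DividedPowers.DPMorphism
import Mathlib.Algebra.Group.Torsion
import Mathlib.RingTheory.Ideal.Operations

/-!
Divided powers on ideals of torsion free rings, and the ideal where a ring map commutes with
partial divided powers.
-/

universe u v

open Finset

namespace Groth.AdicLinTop.DP

theorem uniformBell_eq_mul (m n : ℕ) (hn : n ≠ 0) :
    Nat.uniformBell m n * n.factorial ^ m * m.factorial = (m * n).factorial :=
  Nat.uniformBell_mul_eq m hn

section torsionfree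

variable {A : Type u} [CommRing A] [IsAddTorsionFree A]

theorem cancel_factorial {n : ℕ} {a b : A} (h : (n.factorial : A) * a = n.factorial * b) : a = b :=
  nsmul_right_injective (n := n.factorial) (Nat.factorial_ne_zero n)
    (by simpa [nsmul_eq_mul] using h)

theorem subsingleton_dividedPowers (I : Ideal A) : Subsingleton (DividedPowers I) :=
  ⟨fun γ γ' => DividedPowers.ext _ _ fun n x hx => cancel_factorial
    (by rw [γ.factorial_mul_dpow_eq_pow hx, γ'.factorial_mul_dpow_eq_pow hx])⟩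

/-- The elements of `I` all whose powers are divisible by the factorial inside `I`. -/
def divIdeal (I : Ideal A) : Ideal A where
  carrier := {x | x ∈ I ∧ ∀ n, 1 ≤ n → ∃ u ∈ I, (n.factorial : A) * u = x ^ n}
  zero_mem' := ⟨I.zero_mem, fun n hn => ⟨0, I.zero_mem, by rw [mul_zero, zero_pow (by omega)]⟩⟩
  smul_mem' a x hx := ⟨I.smul_mem a hx.1, fun n hn => by
    obtain ⟨u, hu, he⟩ := hx.2 n hn
    exact ⟨a ^ n * u, I.mul_mem_left _ hu, by rw [smul_eq_mul, mul_pow, ← he, mul_left_comm]⟩⟩
  add_mem' {x y} hx hy := ⟨I.add_mem hx.1 hy.1, fun n hn => by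
    classical
    have hU : ∀ {z : A}, (z ∈ I ∧ ∀ n, 1 ≤ n → ∃ u ∈ I, (n.factorial : A) * u = z ^ n) → ∀ i, ∃ u,
        (i ≠ 0 → u ∈ I) ∧ (i.factorial : A) * u = z ^ i := fun {z} hz i => by
      rcases Nat.eq_zero_or_pos i with rfl | hi
      · exact ⟨1, fun h => (h rfl).elim, by simp⟩
      · obtain ⟨u, hu, he⟩ := hz.2 i hi
        exact ⟨u, fun _ => hu, he⟩
    choose u hu hu' using hU hx
    choose v hv hv' using hU hy
    refine ⟨∑ k ∈ antidiagonal n, u k.1 * v k.2, Submodule.sum_mem _ fun k hk => ?_, ?_⟩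
    · rw [mem_antidiagonal] at hk
      by_cases h1 : k.1 = 0
      · exact I.mul_mem_left _ (hv _ (by omega))
      · exact I.mul_mem_right _ (hu _ h1)
    · rw [Commute.add_pow' (Commute.all _ _), Finset.mul_sum]
      refine Finset.sum_congr rfl fun k hk => ?_
      rw [mem_antidiagonal] at hk
      rw [nsmul_eq_mul, ← hu', ← hv', ← hk, ← Nat.add_choose_mul_factorial_mul_factorial]
      push_cast
      rw [Nat.choose_symm_add]
      ring⟩

open Classical in
/-- The divided power function of an ideal all whose powers are divisible by factorials. -/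
noncomputable def tfDpow (I : Ideal A) (h : ∀ x ∈ I, ∀ n, 1 ≤ n → ∃ u ∈ I, (n.factorial : A) * u = x ^ n)
    (n : ℕ) (x : A) : A :=
  if hx : x ∈ I then if hn : 1 ≤ n then (h x hx n hn).choose else 1 else 0

theorem tfDpow_spec {I : Ideal A} (h : ∀ x ∈ I, ∀ n, 1 ≤ n → ∃ u ∈ I, (n.factorial : A) * u = x ^ n)
    {n : ℕ} {x : A} (hx : x ∈ I) : (n.factorial : A) * tfDpow I h n x = x ^ n := by
  unfold tfDpow
  rw [dif_pos hx]
  split_ifs with hn
  · exact (h x hx n hn).choose_spec.2
  · obtain rfl : n = 0 := by omega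
    simp

theorem tfDpow_mem {I : Ideal A} (h : ∀ x ∈ I, ∀ n, 1 ≤ n → ∃ u ∈ I, (n.factorial : A) * u = x ^ n)
    {n : ℕ} (hn : n ≠ 0) {x : A} (hx : x ∈ I) : tfDpow I h n x ∈ I := by
  unfold tfDpow
  rw [dif_pos hx, dif_pos (Nat.one_le_iff_ne_zero.mpr hn)]
  exact (h x hx n (Nat.one_le_iff_ne_zero.mpr hn)).choose_spec.1

/-- In a torsion free ring an ideal whose powers are divisible by factorials has divided powers. -/
noncomputable def ofTorsionFree (I : Ideal A)
    (h : ∀ x ∈ I, ∀ n, 1 ≤ n → ∃ u ∈ I, (n.factorial : A) * u = x ^ n) : DividedPowers I where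
  dpow := tfDpow I h
  dpow_null hx := by unfold tfDpow; rw [dif_neg hx]
  dpow_zero hx := cancel_factorial (n := 0) (by rw [tfDpow_spec h hx]; simp)
  dpow_one hx := cancel_factorial (n := 1) (by rw [tfDpow_spec h hx]; simp)
  dpow_mem hn hx := tfDpow_mem h hn hx
  dpow_add {n x y} hx hy := cancel_factorial (n := n) (by
    rw [tfDpow_spec h (I.add_mem hx hy), Commute.add_pow' (Commute.all _ _), Finset.mul_sum]
    refine Finset.sum_congr rfl fun k hk => ?_
    rw [mem_antidiagonal] at hk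
    rw [nsmul_eq_mul, ← tfDpow_spec h hx, ← tfDpow_spec h hy, ← hk, ← Nat.add_choose_mul_factorial_mul_factorial]
    push_cast
    rw [Nat.choose_symm_add]
    ring)
  dpow_mul {n a x} hx := cancel_factorial (n := n) (by
    rw [tfDpow_spec h (I.mul_mem_left a hx), mul_left_comm, tfDpow_spec h hx, mul_pow])
  mul_dpow {m n x} hx := cancel_factorial (n := m) (cancel_factorial (n := n) (by
    rw [show (n.factorial : A) * ((m.factorial : A) * (tfDpow I h m x * tfDpow I h n x)) =
      ((m.factorial : A) * tfDpow I h m x) * ((n.factorial : A) * tfDpow I h n x) by ring,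
      tfDpow_spec h hx, tfDpow_spec h hx, ← pow_add, ← tfDpow_spec h hx,
      ← Nat.add_choose_mul_factorial_mul_factorial]
    push_cast
    rw [Nat.choose_symm_add]
    ring))
  dpow_comp {m n x} hn hx := cancel_factorial (n := m) (nsmul_right_injective
    (n := n.factorial ^ m) (pow_ne_zero _ (Nat.factorial_ne_zero n)) (by
    simp only [nsmul_eq_mul, Nat.cast_pow]
    rw [tfDpow_spec h (tfDpow_mem h hn hx), ← mul_pow, tfDpow_spec h hx, ← pow_mul, mul_comm n m,
      ← tfDpow_spec h hx, ← uniformBell_eq_mul m n hn]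
    push_cast
    ring))

end torsionfree

section agreement

variable {A : Type u} [CommRing A] {G : Type v} [CommRing G] {K : Ideal G}

/-- Elements where `φ` commutes with divided powers up to degree `q`. -/
def agreeIdeal (hK : DividedPowers K) (φ : G →+* A) (I : Ideal A) (d : ℕ → A → A) (q : ℕ → Prop)
    (hq : ∀ {i j}, q (i + j) → q i ∧ q j) (h_zero : ∀ x ∈ I, d 0 x = 1)
    (h_add : ∀ n, q n → ∀ x y, x ∈ I → y ∈ I → d n (x + y) = ∑ k ∈ antidiagonal n, d k.1 x * d k.2 y)
    (h_mul : ∀ n, q n → ∀ a x, x ∈ I → d n (a * x) = a ^ n * d n x) : Ideal G where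
  carrier := {z | z ∈ K ∧ φ z ∈ I ∧ ∀ m, q m → φ (hK.dpow m z) = d m (φ z)}
  zero_mem' := ⟨K.zero_mem, by simp, fun m hm => by
    rcases Nat.eq_zero_or_pos m with rfl | h
    · rw [hK.dpow_zero K.zero_mem, map_one, map_zero, h_zero 0 I.zero_mem]
    · have := h_mul m hm 0 0 I.zero_mem
      rw [mul_zero, zero_pow h.ne', zero_mul] at this
      rw [hK.dpow_eval_zero h.ne', map_zero, this]⟩
  add_mem' {x y} hx hy := ⟨K.add_mem hx.1 hy.1, by rw [map_add]; exact I.add_mem hx.2.1 hy.2.1,
    fun m hm => by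
      rw [hK.dpow_add hx.1 hy.1, map_sum, map_add, h_add m hm _ _ hx.2.1 hy.2.1]
      refine Finset.sum_congr rfl fun k hk => ?_
      rw [mem_antidiagonal] at hk
      have := hq (hk ▸ hm : q (k.1 + k.2))
      rw [map_mul, hx.2.2 _ this.1, hy.2.2 _ this.2]⟩
  smul_mem' a x hx := ⟨K.smul_mem a hx.1, by rw [smul_eq_mul, map_mul]; exact I.mul_mem_left _ hx.2.1,
    fun m hm => by
      rw [smul_eq_mul, hK.dpow_mul hx.1, map_mul, map_mul, map_pow, h_mul m hm _ _ hx.2.1, hx.2.2 m hm]⟩

theorem mem_agreeIdeal_iff {hK : DividedPowers K} {φ : G →+* A} {I : Ideal A} {d : ℕ → A → A} {q : ℕ → Prop}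
    {hq} {h_zero} {h_add} {h_mul} {z : G} :
    z ∈ agreeIdeal hK φ I d q hq h_zero h_add h_mul ↔
      z ∈ K ∧ φ z ∈ I ∧ ∀ m, q m → φ (hK.dpow m z) = d m (φ z) := Iff.rfl

end agreement

end Groth.AdicLinTop.DP
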