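import Groth.Agent.AdicLinTop.DP.Extend

/-!
Divided power polynomial algebras over divided power rings.
-/

universe u v w z

open Finset

namespace Groth.AdicLinTop.DP

variable {R : Type u} [CommRing R] {I : Ideal R} (γ : DividedPowers I) {Λ : Type w} {P : Type v}
  [CommRing P] [Algebra R P] {x : Λ → ℕ → P} {b : Module.Basis (Λ →₀ ℕ) R P}

theorem IsPres.inter_le (hP : IsPres x b) {y : P} (hI : y ∈ I.map (algebraMap R P)) (hp : y ∈ plus x) :
    y ∈ I.map (algebraMap R P) • plus x := by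
  classical
  have hco : ∀ y ∈ I.map (algebraMap R P), ∀ e, b.repr y e ∈ I := by
    intro y hy e
    rw [← Submodule.restrictScalars_mem R, ← Ideal.smul_top_eq_map] at hy
    refine Submodule.smul_induction_on hy (fun r hr n _ => ?_) (fun a c ha hc => ?_)
    · rw [map_smul, Finsupp.smul_apply, smul_eq_mul]; exact I.mul_mem_right _ hr
    · rw [map_add, Finsupp.add_apply]; exact I.add_mem ha hc
  rw [← b.linearCombination_repr y, Finsupp.linearCombination_apply]
  refine Submodule.sum_mem _ fun e he => ?_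
  have he0 : e ≠ 0 := fun h => Finsupp.mem_support_iff.mp he (h ▸ hP.mem_plus_iff.mp hp)
  show b.repr y e • b e ∈ _
  rw [Algebra.smul_def (b.repr y e) (b e), smul_eq_mul]
  exact Ideal.mul_mem_mul (Ideal.mem_map_of_mem _ (hco y hI e)) (hP.b_mem_plus he0)

theorem IsPres.exists_dp_total' (hP : IsPres x b) (δp : DividedPowers (plus x)) :
    ∃ δ : DividedPowers (I.map (algebraMap R P) ⊔ plus x),
      γ.IsDPMorphism δ (algebraMap R P) ∧ ∀ (n : ℕ) (y : P), y ∈ plus x → δ.dpow n y = δp.dpow n y := by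
  haveI : Module.Free R P := Module.Free.of_basis b
  obtain ⟨γ', hγ'⟩ := exists_dp_ext_of_flat (B := P) γ
  obtain ⟨δ, h1, h2⟩ := exists_dp_sup γ' δp fun n y hy =>
    DividedPowers.coincide_on_smul γ' δp (hP.inter_le hy.1 hy.2)
  refine ⟨δ, ⟨hγ'.ideal_comp.trans le_sup_left, fun {n} a ha => ?_⟩, h2⟩
  rw [h1 n _ (Ideal.mem_map_of_mem _ ha)]
  exact hγ'.dpow_comp a ha

theorem dp_total_unique {δ δ' : DividedPowers (I.map (algebraMap R P) ⊔ plus x)}
    (h : γ.IsDPMorphism δ (algebraMap R P)) (h' : γ.IsDPMorphism δ' (algebraMap R P))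
    (hp : ∀ (n : ℕ) (y : P), y ∈ plus x → δ.dpow n y = δ'.dpow n y) : δ = δ' :=
  DividedPowers.dpow_eq_from_gens δ' δ (S := algebraMap R P '' I ∪ plus x)
    (by rw [Ideal.span_union, Ideal.span_eq]; rfl)
    fun {n} a ha => by
      rcases ha with ⟨i, hi, rfl⟩ | ha
      · rw [h.dpow_comp i hi, h'.dpow_comp i hi]
      · exact (hp n a ha).symm

theorem IsPres.exists_dp_total (hP : IsPres x b) :
    ∃ δ : DividedPowers (I.map (algebraMap R P) ⊔ plus x),
      γ.IsDPMorphism δ (algebraMap R P) ∧ ∀ l n, δ.dpow n (x l 1) = x l n := by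
  obtain ⟨δp, hδp⟩ := hP.exists_dp
  obtain ⟨δ, h1, h2⟩ := hP.exists_dp_total' γ δp
  exact ⟨δ, h1, fun l n => (h2 n _ (mem_plus x l le_rfl)).trans (hδp l n)⟩

theorem mem_total (x : Λ → ℕ → P) (l : Λ) : x l 1 ∈ I.map (algebraMap R P) ⊔ plus x :=
  Submodule.mem_sup_right (mem_plus x l le_rfl)

theorem IsPres.exists_dpHom (hP : IsPres x b) {δ : DividedPowers (I.map (algebraMap R P) ⊔ plus x)}
    (hδ : γ.IsDPMorphism δ (algebraMap R P)) (hx : ∀ l n, δ.dpow n (x l 1) = x l n)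
    {C : Type z} [CommRing C] [Algebra R C] {K : Ideal C} (ε : DividedPowers K)
    (hε : γ.IsDPMorphism ε (algebraMap R C)) (k : Λ → C) (hk : ∀ l, k l ∈ K) :
    ∃ φ : P →ₐ[R] C, (∀ l, φ (x l 1) = k l) ∧ δ.IsDPMorphism ε φ.toRingHom := by
  obtain ⟨φ, hφ⟩ := hP.exists_lift (S := C) (s := fun l n => ε.dpow n (k l)) (fun l => ε.dpow_zero (hk l))
    (fun l n m => ε.mul_dpow (hk l))
  refine ⟨φ, fun l => (hφ l 1).trans (ε.dpow_one (hk l)), DividedPowers.IsDPMorphism.on_span δ ε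
    (S := algebraMap R P '' I ∪ {y : P | ∃ (l : Λ) (n : ℕ), 1 ≤ n ∧ y = x l n})
    (by rw [Ideal.span_union]; rfl) ?_ ?_⟩
  · rintro s (⟨i, hi, rfl⟩ | ⟨l, n, hn, rfl⟩)
    · show φ (algebraMap R P i) ∈ K
      rw [φ.commutes]; exact hε.ideal_comp (Ideal.mem_map_of_mem _ hi)
    · show φ (x l n) ∈ K
      rw [hφ]; exact ε.dpow_mem (by omega) (hk l)
  · rintro m s (⟨i, hi, rfl⟩ | ⟨l, n, hn, rfl⟩)
    · show φ (δ.dpow m (algebraMap R P i)) = ε.dpow m (φ (algebraMap R P i))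
      rw [hδ.dpow_comp i hi, φ.commutes, φ.commutes, hε.dpow_comp i hi]
    · show φ (δ.dpow m (x l n)) = ε.dpow m (φ (x l n))
      rw [← hx l n, δ.dpow_comp (by omega) (mem_total x l), hx, hx, map_mul, map_natCast, hφ, hφ,
        ε.dpow_comp (by omega) (hk l)]

theorem IsPres.dpHom_unique (hP : IsPres x b) {δ : DividedPowers (I.map (algebraMap R P) ⊔ plus x)}
    (hx : ∀ l n, δ.dpow n (x l 1) = x l n)
    {C : Type z} [CommRing C] [Algebra R C] {K : Ideal C} {ε : DividedPowers K} {φ ψ : P →ₐ[R] C}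
    (hφ : δ.IsDPMorphism ε φ.toRingHom) (hψ : δ.IsDPMorphism ε ψ.toRingHom)
    (h : ∀ l, φ (x l 1) = ψ (x l 1)) : φ = ψ :=
  hP.algHom_ext fun l n => by
    have h1 := hφ.dpow_comp (n := n) _ (mem_total x l)
    have h2 := hψ.dpow_comp (n := n) _ (mem_total x l)
    rw [hx] at h1 h2
    exact h1.symm.trans ((congrArg (ε.dpow n) (h l)).trans h2)

end Groth.AdicLinTop.DP
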