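import Groth.Agent.AdicLinTop.DP.Gens
import Mathlib.Data.Nat.Choose.Lucas
import Mathlib.Data.Nat.Prime.Factorial
import Mathlib.RingTheory.DividedPowers.RatAlgebra

/-!
Divided powers are determined by, and can be constructed from, the `p`-th one, when integers prime
to `p` are invertible.
-/

universe u

open Finset

namespace Groth.AdicLinTop.DP

/-- `n! / ((n/p)! * p!^(n/p))`. -/
def primeCoeff (p n : ℕ) : ℕ := n.choose (n % p) * (n % p).factorial * Nat.uniformBell (n / p) p

variable {p : ℕ} (hp : p.Prime)

include hp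

theorem primeCoeff_mul (n : ℕ) :
    primeCoeff p n * ((n / p).factorial * p.factorial ^ (n / p)) = n.factorial := by
  have h1 := Nat.uniformBell_mul_eq (n / p) hp.ne_zero
  have h2 : n / p * p = n - n % p := by have := Nat.div_add_mod' n p; omega
  rw [primeCoeff, show n.choose (n % p) * (n % p).factorial * Nat.uniformBell (n / p) p *
    ((n / p).factorial * p.factorial ^ (n / p)) =
      n.choose (n % p) * (n % p).factorial * (Nat.uniformBell (n / p) p * p.factorial ^ (n / p) * (n / p).factorial) by ring,
    h1, h2, Nat.choose_mul_factorial_mul_factorial (Nat.mod_le n p)]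

theorem not_dvd_uniformBell (q : ℕ) : ¬ p ∣ Nat.uniformBell q p := by
  haveI := Fact.mk hp
  induction q with
  | zero => rw [Nat.uniformBell_zero_left]; exact hp.not_dvd_one
  | succ q ih =>
    rw [Nat.uniformBell_succ_left, hp.dvd_mul, not_or]
    refine ⟨fun h => ?_, ih⟩
    have hp1 := hp.one_lt
    have hL := Choose.choose_modEq_choose_mod_mul_choose_div_nat (n := q * p + p - 1) (k := p - 1) (p := p)
    have e1 : (q * p + p - 1) % p = p - 1 := by
      rw [show q * p + p - 1 = p - 1 + p * q by rw [mul_comm q p]; omega, Nat.add_mul_mod_self_left,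
        Nat.mod_eq_of_lt (by omega)]
    rw [e1, Nat.mod_eq_of_lt (by omega : p - 1 < p), Nat.choose_self, one_mul,
      Nat.div_eq_of_lt (by omega : p - 1 < p), Nat.choose_zero_right] at hL
    have := hL.symm.trans (Nat.modEq_zero_iff_dvd.mpr h)
    rw [Nat.ModEq, Nat.mod_eq_of_lt hp1, Nat.zero_mod] at this
    exact one_ne_zero this

theorem not_dvd_primeCoeff (n : ℕ) : ¬ p ∣ primeCoeff p n := by
  haveI := Fact.mk hp
  have hr : n % p < p := Nat.mod_lt _ hp.pos
  rw [primeCoeff, hp.dvd_mul, hp.dvd_mul, not_or, not_or]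
  refine ⟨⟨fun h => ?_, fun h => ?_⟩, not_dvd_uniformBell hp _⟩
  · have hL := Choose.choose_modEq_choose_mod_mul_choose_div_nat (n := n) (k := n % p) (p := p)
    rw [Nat.mod_mod, Nat.choose_self, one_mul, Nat.div_eq_of_lt hr, Nat.choose_zero_right] at hL
    have := hL.symm.trans (Nat.modEq_zero_iff_dvd.mpr h)
    rw [Nat.ModEq, Nat.mod_eq_of_lt hp.one_lt, Nat.zero_mod] at this
    exact one_ne_zero this
  · have := (Nat.Prime.dvd_factorial hp).mp h
    omega

omit hp in
theorem primeCoeff_zero : primeCoeff p 0 = 1 := by simp [primeCoeff, Nat.uniformBell_zero_left]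

theorem primeCoeff_of_lt {n : ℕ} (h : n < p) : primeCoeff p n = n.factorial := by
  rw [primeCoeff, Nat.mod_eq_of_lt h, Nat.div_eq_of_lt h, Nat.choose_self, Nat.uniformBell_zero_left]
  simp

theorem primeCoeff_mul_self (j : ℕ) : primeCoeff p (j * p) = Nat.uniformBell j p := by
  rw [primeCoeff, Nat.mul_mod_left, Nat.mul_div_cancel _ hp.pos]
  simp

/-- The recursion satisfied by all divided powers. -/
theorem dpow_rec {G : Type u} [CommRing G] {K : Ideal G} (γ : DividedPowers K) (n : ℕ) {x : G} (hx : x ∈ K) :
    (primeCoeff p n : G) * γ.dpow n x = x ^ (n % p) * γ.dpow (n / p) (γ.dpow p x) := by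
  rw [γ.dpow_comp hp.ne_zero hx, ← γ.factorial_mul_dpow_eq_pow hx, primeCoeff,
    show ((n % p).factorial : G) * γ.dpow (n % p) x * ((Nat.uniformBell (n / p) p : G) * γ.dpow (n / p * p) x) =
      ((n % p).factorial : G) * (Nat.uniformBell (n / p) p : G) * (γ.dpow (n % p) x * γ.dpow (n / p * p) x) by ring,
    γ.mul_dpow hx, Nat.mod_add_div' n p]
  push_cast
  ring

variable {A : Type u} [CommRing A] (hA : ∀ n : ℕ, ¬ p ∣ n → IsUnit (n : A))

include hA

theorem isUnit_primeCoeff (n : ℕ) : IsUnit (primeCoeff p n : A) := hA _ (not_dvd_primeCoeff hp n)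

theorem isUnit_factorial {n : ℕ} (h : n < p) : IsUnit (n.factorial : A) :=
  hA _ fun h' => by have := (Nat.Prime.dvd_factorial hp).mp h'; omega

theorem dp_eq_of_dpow_prime {I : Ideal A} (γ γ' : DividedPowers I)
    (h : ∀ x ∈ I, γ.dpow p x = γ'.dpow p x) : γ = γ' := by
  refine DividedPowers.ext _ _ fun n => ?_
  induction n using Nat.strong_induction_on with
  | _ n ih =>
    intro x hx
    rcases Nat.eq_zero_or_pos n with rfl | hn
    · rw [γ.dpow_zero hx, γ'.dpow_zero hx]
    · refine (isUnit_primeCoeff hp hA n).mul_left_cancel ?_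
      rw [dpow_rec hp γ n hx, dpow_rec hp γ' n hx, h x hx,
        ih (n / p) (Nat.div_lt_self hn hp.one_lt) (γ'.dpow_mem hp.ne_zero hx)]

omit hA

open Classical in
/-- The candidate divided powers built from a `p`-th one. -/
noncomputable def primeDpow (I : Ideal A) (d : A → A) : ℕ → A → A
  | n, x => if x ∈ I then if h : n = 0 then 1 else
      Ring.inverse (primeCoeff p n : A) * x ^ (n % p) *
        (have : n / p < n := Nat.div_lt_self (Nat.pos_of_ne_zero h) hp.one_lt
         primeDpow I d (n / p) (d x)) else 0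
termination_by n => n

include hA

theorem exists_dp_of_dpow_prime {I : Ideal A} (d : A → A)
    (hdI : ∀ x ∈ I, d x ∈ I) (h1 : ∀ x ∈ I, (p.factorial : A) * d x = x ^ p)
    (h2 : ∀ (a x : A), x ∈ I → d (a * x) = a ^ p * d x)
    (h3 : ∀ x ∈ I, ∀ y ∈ I, d (x + y) = d x + d y +
      ((Finset.antidiagonal p).filter fun k => 0 < k.1 ∧ 0 < k.2).sum
        fun k => Ring.inverse ((k.1.factorial * k.2.factorial : ℕ) : A) * x ^ k.1 * y ^ k.2) :
    ∃ γ : DividedPowers I, ∀ x ∈ I, γ.dpow p x = d x := by
  classical
  let D := primeDpow hp I d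
  have hnull : ∀ n x, x ∉ I → D n x = 0 := fun n x hx => by
    simp only [D]; rw [primeDpow, if_neg hx]
  have hzero : ∀ x ∈ I, D 0 x = 1 := fun x hx => by
    simp only [D]; rw [primeDpow, if_pos hx, dif_pos rfl]
  have hrec : ∀ n, ∀ x ∈ I, (primeCoeff p n : A) * D n x = x ^ (n % p) * D (n / p) (d x) := by
    intro n x hx
    rcases Nat.eq_zero_or_pos n with rfl | hn
    · rw [primeCoeff_zero, Nat.cast_one, hzero x hx, Nat.zero_mod, pow_zero, Nat.zero_div,
        hzero _ (hdI x hx)]
    · simp only [D]
      rw [primeDpow, if_pos hx, dif_neg hn.ne', ← mul_assoc, ← mul_assoc,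
        Ring.mul_inverse_cancel _ (isUnit_primeCoeff hp hA n), one_mul]
  have cancel : ∀ n {a b : A}, (primeCoeff p n : A) * a = primeCoeff p n * b → a = b := fun n a b h =>
    (isUnit_primeCoeff hp hA n).mul_left_cancel h
  have hlt : ∀ n, n < p → ∀ x ∈ I, (n.factorial : A) * D n x = x ^ n := by
    intro n hn x hx
    rw [← primeCoeff_of_lt hp hn, hrec n x hx, Nat.mod_eq_of_lt hn, Nat.div_eq_of_lt hn, hzero _ (hdI x hx),
      mul_one]
  have hone : ∀ x ∈ I, D 1 x = x := fun x hx => by simpa using hlt 1 hp.one_lt x hx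
  have hrecp : ∀ j, ∀ x ∈ I, D j (d x) = (Nat.uniformBell j p : A) * D (j * p) x := by
    intro j x hx
    rw [← primeCoeff_mul_self hp j, hrec (j * p) x hx, Nat.mul_mod_left, Nat.mul_div_cancel _ hp.pos,
      pow_zero, one_mul]
  have hDp : ∀ x ∈ I, D p x = d x := fun x hx => by
    have := hrecp 1 x hx
    rw [one_mul, hone _ (hdI x hx)] at this
    rw [this, show Nat.uniformBell 1 p = 1 by
      rw [← primeCoeff_mul_self hp 1]
      have h' := primeCoeff_mul hp (1 * p)
      rw [one_mul, Nat.div_self hp.pos, pow_one, Nat.factorial_one, one_mul] at h'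
      rw [one_mul]
      exact mul_right_cancel₀ (Nat.factorial_ne_zero p) (h'.trans (one_mul _).symm)]
    simp
  have hmem : ∀ n x, n ≠ 0 → x ∈ I → D n x ∈ I := by
    intro n
    induction n using Nat.strong_induction_on with
    | _ n ih =>
      intro x hn hx
      refine (Ideal.unit_mul_mem_iff_mem I (isUnit_primeCoeff hp hA n)).mp ?_
      rw [hrec n x hx]
      by_cases hr : n % p = 0
      · refine I.mul_mem_left _ (ih _ (Nat.div_lt_self (Nat.pos_of_ne_zero hn) hp.one_lt) _ ?_ (hdI x hx))
        intro h0
        exact hn (by rw [← Nat.div_add_mod n p, h0, hr, mul_zero, add_zero])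
      · exact I.mul_mem_right _ (I.pow_mem_of_mem hx _ (Nat.pos_of_ne_zero hr))
  have hmul : ∀ n a x, x ∈ I → D n (a * x) = a ^ n * D n x := by
    intro n
    induction n using Nat.strong_induction_on with
    | _ n ih =>
      intro a x hx
      rcases Nat.eq_zero_or_pos n with rfl | hn
      · rw [hzero _ (I.mul_mem_left a hx), hzero x hx, pow_zero, one_mul]
      · refine cancel n ?_
        rw [hrec n _ (I.mul_mem_left a hx), h2 a x hx, ih _ (Nat.div_lt_self hn hp.one_lt) _ _ (hdI x hx),
          mul_left_comm _ (a ^ n), hrec n x hx, mul_pow, ← pow_mul]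
        conv_rhs => rw [show a ^ n = a ^ (n % p) * a ^ (p * (n / p)) by rw [← pow_add, Nat.mod_add_div]]
        ring
  have hmdp : ∀ N, ∀ a b, a + b = N → ∀ x ∈ I, D a x * D b x = ((a + b).choose a : A) * D (a + b) x := by
    intro N
    induction N using Nat.strong_induction_on with
    | _ N ih =>
      intro a b hab x hx
      rcases Nat.eq_zero_or_pos N with rfl | hN
      · obtain ⟨rfl, rfl⟩ := Nat.add_eq_zero_iff.mp hab
        simp [hzero x hx]
      refine cancel a (cancel b ?_)
      subst hab
      have hp1 := hp.one_lt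
      have ha := Nat.mod_add_div a p
      have hb := Nat.mod_add_div b p
      have har := Nat.mod_lt a hp.pos
      have hbr := Nat.mod_lt b hp.pos
      have hQ : a / p + b / p < a + b := by
        have h1 : a / p ≤ a := Nat.div_le_self _ _
        have h2 : b / p ≤ b := Nat.div_le_self _ _
        rcases Nat.eq_zero_or_pos a with h | h
        · have := Nat.div_lt_self (show 0 < b by omega) hp1; omega
        · have := Nat.div_lt_self h hp1; omega
      rw [show (primeCoeff p b : A) * ((primeCoeff p a : A) * (D a x * D b x)) =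
          ((primeCoeff p a : A) * D a x) * ((primeCoeff p b : A) * D b x) by ring,
        hrec a x hx, hrec b x hx,
        show x ^ (a % p) * D (a / p) (d x) * (x ^ (b % p) * D (b / p) (d x)) =
          x ^ (a % p + b % p) * (D (a / p) (d x) * D (b / p) (d x)) by rw [pow_add]; ring,
        ih _ hQ _ _ rfl _ (hdI x hx)]
      have hNid := Nat.add_choose_mul_factorial_mul_factorial a b
      rw [← Nat.choose_symm_add] at hNid
      have hQid := Nat.add_choose_mul_factorial_mul_factorial (a / p) (b / p)
      rw [← Nat.choose_symm_add] at hQid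
      have hpos : (a / p).factorial * p.factorial ^ (a / p) * ((b / p).factorial * p.factorial ^ (b / p)) ≠ 0 := by
        positivity
      have hl : (a + b).choose a * (primeCoeff p a * primeCoeff p b) *
          ((a / p).factorial * p.factorial ^ (a / p) * ((b / p).factorial * p.factorial ^ (b / p))) =
          (a + b).factorial := by
        calc _ = (a + b).choose a * (primeCoeff p a * ((a / p).factorial * p.factorial ^ (a / p))) *
              (primeCoeff p b * ((b / p).factorial * p.factorial ^ (b / p))) := by ring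
          _ = _ := by rw [primeCoeff_mul hp a, primeCoeff_mul hp b, hNid]
      by_cases hs : a % p + b % p < p
      · have e : a % p + b % p = (a + b) % p ∧ a / p + b / p = (a + b) / p := by
          rw [show a + b = (a % p + b % p) + p * (a / p + b / p) by rw [mul_add]; omega,
            Nat.add_mul_mod_self_left, Nat.mod_eq_of_lt hs, Nat.add_mul_div_left _ _ hp.pos,
            Nat.div_eq_of_lt hs, zero_add]
          exact ⟨rfl, rfl⟩
        have hcoef : (a / p + b / p).choose (a / p) * primeCoeff p (a + b) =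
            (a + b).choose a * (primeCoeff p a * primeCoeff p b) := by
          refine mul_right_cancel₀ hpos ?_
          rw [hl, ← primeCoeff_mul hp (a + b), ← e.2, ← hQid, pow_add]
          ring
        have hc : ((a / p + b / p).choose (a / p) : A) * primeCoeff p (a + b) =
            ((a + b).choose a : A) * (primeCoeff p a * primeCoeff p b) := by exact_mod_cast congrArg (Nat.cast : ℕ → A) hcoef
        have hr := hrec (a + b) x hx
        rw [← e.1, ← e.2] at hr
        linear_combination (-((a / p + b / p).choose (a / p) : A)) * hr + D (a + b) x * hc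
      · obtain ⟨s, hs'⟩ := Nat.exists_eq_add_of_le (Nat.le_of_not_lt hs)
        have e : s = (a + b) % p ∧ a / p + b / p + 1 = (a + b) / p := by
          rw [show a + b = s + p * (a / p + b / p + 1) by rw [mul_add, mul_add, mul_one]; omega,
            Nat.add_mul_mod_self_left, Nat.mod_eq_of_lt (show s < p by omega),
            Nat.add_mul_div_left _ _ hp.pos, Nat.div_eq_of_lt (show s < p by omega), zero_add]
          exact ⟨rfl, rfl⟩
        have hlt' : 1 + (a / p + b / p) < a + b := by
          rw [add_comm 1, e.2]; exact Nat.div_lt_self (by omega) hp1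
        have h1Q := ih _ hlt' 1 (a / p + b / p) rfl _ (hdI x hx)
        rw [hone _ (hdI x hx), Nat.choose_one_right, add_comm 1] at h1Q
        have hcoef : (a / p + b / p).choose (a / p) * p.factorial * (a / p + b / p + 1) * primeCoeff p (a + b) =
            (a + b).choose a * (primeCoeff p a * primeCoeff p b) := by
          refine mul_right_cancel₀ hpos ?_
          rw [hl, ← primeCoeff_mul hp (a + b), ← e.2, Nat.factorial_succ, ← hQid, pow_add, pow_one, pow_add]
          ring
        have hc : ((a / p + b / p).choose (a / p) : A) * p.factorial * ((a / p + b / p + 1 : ℕ) : A) * primeCoeff p (a + b) =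
            ((a + b).choose a : A) * (primeCoeff p a * primeCoeff p b) := by exact_mod_cast congrArg (Nat.cast : ℕ → A) hcoef
        have hr := hrec (a + b) x hx
        rw [← e.1, ← e.2] at hr
        have hxp : x ^ (a % p + b % p) = x ^ s * ((p.factorial : A) * d x) := by
          rw [h1 x hx, ← pow_add, hs']; ring
        linear_combination ((a / p + b / p).choose (a / p) : A) * D (a / p + b / p) (d x) * hxp +
          (x ^ s * (p.factorial : A) * ((a / p + b / p).choose (a / p) : A)) * h1Q +
          (-(((a / p + b / p).choose (a / p) : A) * p.factorial * ((a / p + b / p + 1 : ℕ) : A))) * hr +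
          D (a + b) x * hc
  have hmdp' : ∀ a b, ∀ x ∈ I, D a x * D b x = ((a + b).choose a : A) * D (a + b) x :=
    fun a b x hx => hmdp _ a b rfl x hx
  have hadd : ∀ n x y, x ∈ I → y ∈ I → D n (x + y) = ∑ k ∈ antidiagonal n, D k.1 x * D k.2 y := by
    intro n
    induction n using Nat.strong_induction_on with
    | _ n ih =>
      intro x y hx hy
      rcases Nat.eq_zero_or_pos n with rfl | hn
      · rw [Finset.Nat.antidiagonal_zero, Finset.sum_singleton, hzero _ (I.add_mem hx hy), hzero x hx, hzero y hy,
          mul_one]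
      obtain ⟨b, hP⟩ := exists_alg_basis (Fin 2) ℤ
      obtain ⟨γ, hγ⟩ := hP.exists_dp
      let v : Fin 2 → A := ![x, y]
      have hv : ∀ l, v l ∈ I := by intro l; fin_cases l <;> simp [v, hx, hy]
      obtain ⟨φ, hφ⟩ := hP.exists_lift (S := A) (s := fun l j => D j (v l)) (fun l => hzero _ (hv l))
        (fun l a b => hmdp' a b _ (hv l))
      let X := algX (Fin 2) ℤ
      have hX : ∀ l, X l 1 ∈ plus X := fun l => mem_plus X l le_rfl
      have hφ1 : ∀ l, φ (X l 1) = v l := fun l => (hφ l 1).trans (hone _ (hv l))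
      have hsum : ∀ m, φ (γ.dpow m (X 0 1 + X 1 1)) = ∑ k ∈ antidiagonal m, D k.1 x * D k.2 y := fun m => by
        rw [γ.dpow_add (hX 0) (hX 1), map_sum]
        exact Finset.sum_congr rfl fun k _ => by rw [map_mul, hγ, hγ, hφ, hφ]; rfl
      let T := agreeIdeal γ φ.toRingHom I D (fun j => j ≤ n / p) (fun h => ⟨by omega, by omega⟩) hzero
        (fun j hj x y hx hy => ih j (hj.trans_lt (Nat.div_lt_self hn hp.one_lt)) x y hx hy)
        (fun j _ => hmul j)
      have hTgen : ∀ l i, i ≠ 0 → i ≤ p → X l i ∈ T := by
        intro l i hi hip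
        refine mem_agreeIdeal_iff.mpr ⟨mem_plus X l (Nat.one_le_iff_ne_zero.mpr hi), ?_, fun j _ => ?_⟩
        · show φ (X l i) ∈ I
          rw [hφ]; exact hmem _ _ hi (hv l)
        · show φ (γ.dpow j (X l i)) = D j (φ (X l i))
          rcases hip.lt_or_eq with hip | rfl
          · have hu : IsUnit ((i.factorial : A) ^ j) := (isUnit_factorial hp hA hip).pow j
            refine hu.mul_left_cancel ?_
            obtain ⟨i', rfl⟩ := Nat.exists_eq_succ_of_ne_zero hi
            rw [← hmul j _ _ (show φ (X l (i' + 1)) ∈ I by rw [hφ]; exact hmem _ _ hi (hv l)), hφ, hlt _ hip _ (hv l),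
              pow_succ, hmul j _ _ (hv l),
              show ((((i' + 1).factorial : ℕ) : A)) ^ j = φ ((((i' + 1).factorial : ℕ) : Alg ℤ (Fin 2)) ^ j) by
                rw [map_pow, map_natCast],
              ← map_mul, ← γ.dpow_mul (mem_plus X l (Nat.le_add_left 1 i')), hP.factorial_mul, pow_succ,
              γ.dpow_mul (hX l), map_mul, map_pow, map_pow, hγ, hφ, hone _ (hv l), hφ]
          · rw [hP.dpow_x γ hγ l j hi, map_mul, map_natCast, hφ, hφ, hDp _ (hv l), hrecp j _ (hv l)]
      have hz : γ.dpow p (X 0 1 + X 1 1) ∈ T := by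
        rw [γ.dpow_add (hX 0) (hX 1)]
        refine T.sum_mem fun k hk => ?_
        rw [mem_antidiagonal] at hk
        rw [hγ, hγ]
        by_cases h0 : k.1 = 0
        · exact T.mul_mem_left _ (hTgen 1 k.2 (by have := hp.pos; omega) (by omega))
        · exact T.mul_mem_right _ (hTgen 0 k.1 h0 (by omega))
      have hφz : φ (γ.dpow p (X 0 1 + X 1 1)) = d (x + y) := by
        rw [hsum, h3 x hx y hy, ← Finset.sum_filter_add_sum_filter_not (antidiagonal p) (fun k => 0 < k.1 ∧ 0 < k.2),
          add_comm]
        have hset : ((antidiagonal p).filter fun k => ¬(0 < k.1 ∧ 0 < k.2)) = {(0, p), (p, 0)} := by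
          ext ⟨i, j⟩
          have := hp.pos
          simp only [Finset.mem_filter, mem_antidiagonal, Finset.mem_insert, Finset.mem_singleton, Prod.mk.injEq]
          omega
        congr 1
        · rw [hset, Finset.sum_pair (by simp [hp.ne_zero.symm]), hzero x hx, hzero y hy, hDp x hx, hDp y hy]
          ring
        · refine Finset.sum_congr rfl fun k hk => ?_
          obtain ⟨hk1, hk2⟩ := Finset.mem_filter.mp hk
          rw [mem_antidiagonal] at hk1
          have hu1 := isUnit_factorial hp hA (show k.1 < p by omega)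
          have hu2 := isUnit_factorial hp hA (show k.2 < p by omega)
          rw [← hlt _ (show k.1 < p by omega) x hx, ← hlt _ (show k.2 < p by omega) y hy, Nat.cast_mul,
            Ring.mul_inverse_rev]
          linear_combination (-(D k.1 x * D k.2 y)) * Ring.inverse_mul_cancel _ hu1 +
            (-(D k.1 x * D k.2 y) * (Ring.inverse (k.1.factorial : A) * (k.1.factorial : A))) *
              Ring.inverse_mul_cancel _ hu2
      have hq := (mem_agreeIdeal_iff.mp hz).2.2 (n / p) le_rfl
      change φ (γ.dpow (n / p) _) = D (n / p) (φ _) at hq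
      rw [hφz] at hq
      refine cancel n ?_
      rw [← hsum n, hrec n _ (I.add_mem hx hy), ← map_natCast φ, ← map_mul,
        dpow_rec hp γ n ((plus X).add_mem (hX 0) (hX 1)), map_mul, map_pow, map_add, hφ1, hφ1, hq]
      rfl
  have hd : IsPreDP I D := ⟨hnull, hzero, hone, hmem, hadd, hmul⟩
  have hcomp : ∀ n, ∀ m, n ≠ 0 → ∀ x ∈ I, D m (D n x) = (Nat.uniformBell m n : A) * D (m * n) x := by
    intro n
    induction n using Nat.strong_induction_on with
    | _ n ih =>
      intro m hn x hx
      obtain ⟨b, hP⟩ := exists_alg_basis (Fin 1) ℤ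
      obtain ⟨γ, hγ⟩ := hP.exists_dp
      obtain ⟨φ, hφ⟩ := hP.exists_lift (S := A) (s := fun _ j => D j x) (fun _ => hzero x hx)
        (fun _ a b => hmdp' a b x hx)
      let X := algX (Fin 1) ℤ
      have hX : X 0 1 ∈ plus X := mem_plus X 0 le_rfl
      have hX1 : φ (X 0 1) = x := (hφ 0 1).trans (hone x hx)
      refine ((isUnit_primeCoeff hp hA n).pow m).mul_left_cancel ?_
      rw [← hmul m _ _ (hmem n x hn hx), hrec n x hx]
      have hG := congrArg (fun w => φ (γ.dpow m w)) (dpow_rec hp γ n hX)
      simp only [γ.dpow_mul (γ.dpow_mem hn hX), γ.dpow_comp hn hX] at hG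
      simp only [map_mul, map_pow, map_natCast, X, hγ, hφ] at hG
      rw [hG]
      by_cases hq : n / p = 0
      · obtain ⟨r, hr⟩ := Nat.exists_eq_succ_of_ne_zero (show n % p ≠ 0 by
          intro h; exact hn (by rw [← Nat.div_add_mod n p, hq, h, mul_zero, add_zero]))
        rw [hq, hzero _ (hdI x hx), γ.dpow_zero (mem_plus _ 0 hp.pos), mul_one, mul_one, hr, pow_succ,
          pow_succ, γ.dpow_mul (mem_plus _ 0 le_rfl), map_mul, map_pow, map_pow, hγ, hφ, hone x hx, hφ,
          hmul m _ x hx]
      · rw [hmul m _ _ (hmem _ _ hq (hdI x hx)),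
          γ.dpow_mul (γ.dpow_mem hq (mem_plus _ 0 hp.pos)), γ.dpow_comp hq (mem_plus _ 0 hp.pos),
          hP.dpow_x γ hγ 0 _ hp.ne_zero, map_mul, map_mul, map_mul, map_pow, map_pow, map_natCast, map_natCast,
          hφ, hone x hx, hφ, ih _ (Nat.div_lt_self (Nat.pos_of_ne_zero hn) hp.one_lt) m hq _ (hdI x hx),
          hrecp _ x hx]
  obtain ⟨γ, hγ⟩ := hd.exists_dp (Ideal.span_eq I) fun x hx =>
    ⟨fun a b => hmdp' a b x hx, fun m n hn => hcomp n m hn x hx⟩
  exact ⟨γ, fun x hx => by rw [hγ]; exact hDp x hx⟩

end Groth.AdicLinTop.DP
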