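import Mathlib.RingTheory.WittVector.Truncated
import Mathlib.RingTheory.WittVector.Teichmuller
import Mathlib.Data.Nat.Factorial.BigOperators
import Mathlib.RingTheory.Ideal.Quotient.Operations

/-!
The map `θ` from truncated Witt vectors.
-/

universe u

open Finset

namespace Groth.AdicLinTop.DP

variable (p : ℕ) [hpf : Fact p.Prime] (n : ℕ) {B : Type u} [CommRing B] (hp : (p : B) ^ n = 0)

include hp

theorem ghost_eq_sum (x : WittVector p B) : WittVector.ghostComponent n x =
    ∑ i : Fin n, (p : B) ^ (i : ℕ) * (x.coeff i) ^ (p ^ (n - i)) := by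
  rw [WittVector.ghostComponent_apply, aeval_wittPolynomial, Finset.sum_range_succ, hp, zero_mul, add_zero,
    Finset.sum_range]

variable (θ : TruncatedWittVector p n (B ⧸ (Ideal.span {(p : B)})) →+* B)
  (hθ : ∀ x : WittVector p B, θ (WittVector.truncate n (WittVector.map (Ideal.Quotient.mk (Ideal.span {(p : B)})) x)) =
    ∑ i : Fin n, (p : B) ^ (i : ℕ) * (x.coeff i) ^ (p ^ (n - i)))

omit hp in
theorem truncate_map_surjective (J : Ideal B) :
    Function.Surjective ((WittVector.truncate n).comp (WittVector.map (p := p) (Ideal.Quotient.mk J))) :=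
  (WittVector.truncate_surjective p n (B ⧸ J)).comp
    (WittVector.map_surjective _ Ideal.Quotient.mk_surjective)

include hθ

omit hp in
theorem mk_theta (hn : 0 < n) (a : TruncatedWittVector p n (B ⧸ (Ideal.span {(p : B)}))) :
    Ideal.Quotient.mk (Ideal.span {(p : B)}) (θ a) = (TruncatedWittVector.coeff ⟨0, hn⟩ a) ^ (p ^ n) := by
  obtain ⟨x, rfl⟩ := truncate_map_surjective p n (Ideal.span {(p : B)}) a
  rw [RingHom.comp_apply, hθ, WittVector.coeff_truncate, WittVector.map_coeff, map_sum,
    Finset.sum_eq_single (⟨0, hn⟩ : Fin n)]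
  · simp
  · intro i _ hi
    obtain ⟨j, hj⟩ := Nat.exists_eq_succ_of_ne_zero (fun h : (i : ℕ) = 0 => hi (Fin.ext h))
    rw [map_mul, map_pow, Ideal.Quotient.eq_zero_iff_mem.mpr (Ideal.mem_span_singleton_self (p : B)), hj,
      pow_succ, mul_zero, zero_mul]
  · simp

theorem theta_surjective (hF : Function.Surjective (fun y : B ⧸ (Ideal.span {(p : B)}) => y ^ p)) :
    Function.Surjective θ := by
  rcases Nat.eq_zero_or_pos n with rfl | hn
  · intro b
    haveI : Subsingleton B := subsingleton_of_zero_eq_one (by simpa using hp.symm)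
    exact ⟨0, Subsingleton.elim _ _⟩
  have hFn : ∀ m, Function.Surjective (fun y : B ⧸ (Ideal.span {(p : B)}) => y ^ (p ^ m)) := fun m => by
    induction m with
    | zero => intro y; exact ⟨y, by simp⟩
    | succ m ih =>
      intro y
      obtain ⟨z, rfl⟩ := hF y
      obtain ⟨w, rfl⟩ := ih z
      exact ⟨w, by simp [pow_succ, pow_mul]⟩
  have step : ∀ b, ∃ a c, b = θ a + (p : B) * c := fun b => by
    obtain ⟨y, hy⟩ := hFn n (Ideal.Quotient.mk _ b)
    let a := WittVector.truncate n (WittVector.teichmuller p y)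
    have h : Ideal.Quotient.mk (Ideal.span {(p : B)}) (θ a) = Ideal.Quotient.mk _ b := by
      rw [mk_theta p n θ hθ hn, WittVector.coeff_truncate, WittVector.teichmuller_coeff_zero]
      exact hy
    obtain ⟨c, hc⟩ := Ideal.mem_span_singleton'.mp (Ideal.Quotient.eq.mp h.symm)
    exact ⟨a, c, by rw [mul_comm, hc]; ring⟩
  have hm : ∀ m b, ∃ a c, b = θ a + (p : B) ^ m * c := fun m => by
    induction m with
    | zero => exact fun b => ⟨0, b, by simp⟩
    | succ m ih =>
      intro b
      obtain ⟨a, c, rfl⟩ := ih b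
      obtain ⟨a', c', rfl⟩ := step c
      exact ⟨a + (p : TruncatedWittVector p n _) ^ m * a', c', by rw [map_add, map_mul, map_pow, map_natCast]; ring⟩
  intro b
  obtain ⟨a, c, rfl⟩ := hm n b
  exact ⟨a, by rw [hp, zero_mul, add_zero]⟩

end Groth.AdicLinTop.DP
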